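import Groth.Agent.GaDualLib.Split

/-! Additive symmetric polynomial 2-cocycles in characteristic `p`. -/

set_option autoImplicit false

namespace GaDualLib

open MvPolynomial

universe u

variable {R : Type u} [CommRing R]

/-- additive symmetric cocycle -/
def IsAdd (F : MvPolynomial (Fin 2) R) : Prop :=
  swp F = F ∧ q1 F + p23 F - q2 F - p12 F = 0

theorem IsAdd.add {F F' : MvPolynomial (Fin 2) R} (h : IsAdd F) (h' : IsAdd F') : IsAdd (F + F') :=
  ⟨by rw [map_add, h.1, h'.1], by
    rw [map_add, map_add, map_add, map_add]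
    linear_combination h.2 + h'.2⟩

theorem IsAdd.C_mul {F : MvPolynomial (Fin 2) R} (h : IsAdd F) (r : R) : IsAdd (C r * F) := by
  obtain ⟨h1, h2⟩ := h
  refine ⟨by rw [map_mul, h1]; simp [swp], ?_⟩
  rw [map_mul, map_mul, map_mul, map_mul]
  simp only [q1, q2, p12, p23, aeval_C, algebraMap_eq] at *
  linear_combination (C r : MvPolynomial (Fin 3) R) * h2

theorem isAdd_coboundary (G : Polynomial R) :
    IsAdd (Polynomial.aeval (X 0 + X 1 : MvPolynomial (Fin 2) R) G - Polynomial.aeval (X 0 : MvPolynomial (Fin 2) R) G -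
      Polynomial.aeval (X 1 : MvPolynomial (Fin 2) R) G) := by
  constructor
  · simp only [map_sub, ← Polynomial.aeval_algHom_apply, map_add, swp, aeval_X, Matrix.cons_val_zero, Matrix.cons_val_one]
    rw [add_comm (X 1)]
    ring
  · simp only [map_sub, ← Polynomial.aeval_algHom_apply, map_add, p12, p23, q1, q2, aeval_X, Matrix.cons_val_zero,
      Matrix.cons_val_one]
    rw [add_assoc (X 0 : MvPolynomial (Fin 3) R)]
    ring

/-- `((X+Y)^p - X^p - Y^p)/p` -/
noncomputable def Sp (p : ℕ) (R : Type u) [CommRing R] : MvPolynomial (Fin 2) R :=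
  ∑ j ∈ Finset.Ioo 0 p, C ((p.choose j / p : ℕ) : R) * X 0 ^ j * X 1 ^ (p - j)

theorem map_Sp {R : Type*} {S : Type*} [CommRing R] [CommRing S] (π : R →+* S) (p : ℕ) : MvPolynomial.map π (Sp p R) = Sp p S := by
  simp [Sp]

theorem natCast_mul_Sp (p : ℕ) [Fact p.Prime] :
    (p : MvPolynomial (Fin 2) R) * Sp p R = (X 0 + X 1) ^ p - X 0 ^ p - X 1 ^ p := by
  have hp := (Fact.out : p.Prime)
  rw [add_pow, Finset.range_eq_Ico, Finset.sum_eq_sum_Ico_succ_bot (Nat.succ_pos p), Finset.sum_Ico_succ_top hp.pos,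
    Sp, Finset.mul_sum, show Finset.Ioo 0 p = Finset.Ico 1 p from rfl]
  simp only [pow_zero, Nat.choose_zero_right, Nat.cast_one, mul_one, one_mul, Nat.sub_zero, Nat.choose_self,
    Nat.sub_self]
  rw [show ∑ i ∈ Finset.Ico 1 p, (p : MvPolynomial (Fin 2) R) * (C ((p.choose i / p : ℕ) : R) * X 0 ^ i * X 1 ^ (p - i)) =
      ∑ i ∈ Finset.Ico 1 p, X 0 ^ i * X 1 ^ (p - i) * (p.choose i : MvPolynomial (Fin 2) R) from
    Finset.sum_congr rfl fun i hi => by
      obtain ⟨h1, h2⟩ := Finset.mem_Ico.1 hi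
      have hd : p ∣ p.choose i := hp.dvd_choose_self (by omega) h2
      conv_rhs => rw [← Nat.mul_div_cancel' hd]
      simp only [map_natCast, Nat.cast_mul]
      ring]
  ring

theorem isAdd_Sp (p : ℕ) [Fact p.Prime] : IsAdd (Sp p R) := by
  suffices h : IsAdd (Sp p ℤ) by
    have key : ∀ {σ : Type} (g : Fin 2 → MvPolynomial σ ℤ) (x : MvPolynomial (Fin 2) ℤ),
        MvPolynomial.map (Int.castRingHom R) (aeval g x) =
          aeval (fun k => MvPolynomial.map (Int.castRingHom R) (g k)) (MvPolynomial.map (Int.castRingHom R) x) :=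
      fun g x => by rw [aeval_eq_bind₁, aeval_eq_bind₁, map_bind₁]
    refine ⟨?_, ?_⟩
    · have h1 := congrArg (MvPolynomial.map (Int.castRingHom R)) h.1
      rw [swp, key, map_Sp] at h1
      convert h1 using 2
      simp only [swp]
      congr 1
      congr 1
      ext k; fin_cases k <;> simp
    · have h1 := congrArg (MvPolynomial.map (Int.castRingHom R)) h.2
      simp only [map_sub, map_add, map_zero, p12, p23, q1, q2, key, map_Sp] at h1
      simp only [p12, p23, q1, q2]
      have hv : ∀ a b : MvPolynomial (Fin 3) ℤ, (fun k => MvPolynomial.map (Int.castRingHom R) (![a, b] k)) =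
          ![MvPolynomial.map (Int.castRingHom R) a, MvPolynomial.map (Int.castRingHom R) b] := fun a b => by
        ext k; fin_cases k <;> simp
      simp only [hv, map_add, map_X] at h1
      exact h1
  have hp0 : (p : MvPolynomial (Fin 2) ℤ) ≠ 0 := Nat.cast_ne_zero.2 (Fact.out : p.Prime).ne_zero
  have hp3 : (p : MvPolynomial (Fin 3) ℤ) ≠ 0 := Nat.cast_ne_zero.2 (Fact.out : p.Prime).ne_zero
  constructor
  · refine mul_left_cancel₀ hp0 ?_
    have h1 : swp ((p : MvPolynomial (Fin 2) ℤ) * Sp p ℤ) = (p : MvPolynomial (Fin 2) ℤ) * swp (Sp p ℤ) := by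
      rw [map_mul, map_natCast]
    rw [← h1, natCast_mul_Sp]
    simp only [swp, map_sub, map_pow, map_add, aeval_X, Matrix.cons_val_zero, Matrix.cons_val_one]
    ring
  · refine mul_left_cancel₀ hp3 ?_
    have h1 : ∀ f : MvPolynomial (Fin 2) ℤ →ₐ[ℤ] MvPolynomial (Fin 3) ℤ,
        (p : MvPolynomial (Fin 3) ℤ) * f (Sp p ℤ) = f ((X 0 + X 1) ^ p - X 0 ^ p - X 1 ^ p) := fun f => by
      rw [← natCast_mul_Sp, map_mul, map_natCast]
    rw [mul_sub, mul_sub, mul_add, h1, h1, h1, h1]
    simp only [p12, p23, q1, q2, map_sub, map_pow, map_add, aeval_X, Matrix.cons_val_zero, Matrix.cons_val_one]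
    ring

variable (p : ℕ) [Fact p.Prime] [CharP R p]

/-- `(X, Y) ↦ (X ^ p ^ k, Y ^ p ^ k)` -/
noncomputable def ψ (k : ℕ) : MvPolynomial (Fin 2) R →ₐ[R] MvPolynomial (Fin 2) R :=
  aeval ![X 0 ^ p ^ k, X 1 ^ p ^ k]

theorem IsAdd.frob {F : MvPolynomial (Fin 2) R} (h : IsAdd F) (k : ℕ) : IsAdd (ψ p k F) := by
  let ψ3 : MvPolynomial (Fin 3) R →ₐ[R] MvPolynomial (Fin 3) R := aeval fun i => X i ^ p ^ k
  have h1 : swp.comp (ψ p k) = (ψ p k).comp (swp (S := R)) := algHom_ext fun i => by fin_cases i <;> simp [swp, ψ]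
  have h2 : p12.comp (ψ p k) = ψ3.comp (p12 (S := R)) := algHom_ext fun i => by fin_cases i <;> simp [p12, ψ, ψ3]
  have h3 : p23.comp (ψ p k) = ψ3.comp (p23 (S := R)) := algHom_ext fun i => by fin_cases i <;> simp [p23, ψ, ψ3]
  have h4 : q1.comp (ψ p k) = ψ3.comp (q1 (S := R)) :=
    algHom_ext fun i => by fin_cases i <;> simp [q1, ψ, ψ3, add_pow_char_pow]
  have h5 : q2.comp (ψ p k) = ψ3.comp (q2 (S := R)) :=
    algHom_ext fun i => by fin_cases i <;> simp [q2, ψ, ψ3, add_pow_char_pow]
  refine ⟨?_, ?_⟩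
  · rw [show swp (ψ p k F) = ψ p k (swp F) from AlgHom.congr_fun h1 F, h.1]
  · rw [show q1 (ψ p k F) = ψ3 (q1 F) from AlgHom.congr_fun h4 F, show p23 (ψ p k F) = ψ3 (p23 F) from AlgHom.congr_fun h3 F,
      show q2 (ψ p k F) = ψ3 (q2 F) from AlgHom.congr_fun h5 F, show p12 (ψ p k F) = ψ3 (p12 F) from AlgHom.congr_fun h2 F,
      ← map_add, ← map_sub, ← map_sub, h.2, map_zero]

theorem coeff_ψ_Sp [Algebra (ZMod p) R] (k i j : ℕ) (hij : i + j = p ^ (k + 1)) :
    coeff (e2 i j) (ψ p k (Sp p R)) = if 0 < i ∧ 0 < j then -algebraMap (ZMod p) R (W p (p ^ k) i) else 0 := by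
  have hp := (Fact.out : p.Prime)
  have hq : 0 < p ^ k := pow_pos hp.pos k
  rw [Sp, map_sum, coeff_sum]
  have hmon : ∀ m, ψ p k (C ((p.choose m / p : ℕ) : R) * X 0 ^ m * X 1 ^ (p - m)) =
      monomial (e2 (p ^ k * m) (p ^ k * (p - m))) ((p.choose m / p : ℕ) : R) := fun m => by
    rw [monomial_e2]
    simp [ψ, pow_mul]
  simp only [hmon, coeff_monomial, e2_inj]
  by_cases hd : p ^ k ∣ i
  · obtain ⟨x, rfl⟩ := hd
    obtain ⟨y, rfl⟩ : p ^ k ∣ j := (Nat.dvd_add_right (dvd_mul_right _ x)).1 (by rw [hij, pow_succ]; exact dvd_mul_right _ _)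
    have hxy : x + y = p := Nat.eq_of_mul_eq_mul_left hq (by rw [mul_add, hij, pow_succ])
    split_ifs with h
    · obtain ⟨hx, hy⟩ : 0 < x ∧ 0 < y := ⟨Nat.pos_of_mul_pos_left h.1, Nat.pos_of_mul_pos_left h.2⟩
      rw [Finset.sum_eq_single x, if_pos ⟨rfl, by rw [show p - x = y by omega]⟩]
      · rw [W, if_pos (dvd_mul_right _ x), Nat.mul_div_cancel_left _ hq, ← map_neg, ← map_natCast (algebraMap (ZMod p) R)]
        congr 1
        have hd : p ∣ p.choose x := hp.dvd_choose_self (by omega) (by omega)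
        have h1 := Nat.choose_mul_factorial_mul_factorial (show x ≤ p by omega)
        have h2 : (p.choose x / p) * x.factorial * (p - x).factorial = (p - 1).factorial := by
          refine Nat.eq_of_mul_eq_mul_left hp.pos ?_
          rw [← mul_assoc, ← mul_assoc, Nat.mul_div_cancel' hd, h1, Nat.mul_factorial_pred hp.ne_zero]
        have h3 := congrArg (fun t : ℕ => (t : ZMod p)) h2
        simp only [Nat.cast_mul, ZMod.wilsons_lemma] at h3
        rw [κ, κ, if_pos (by omega), if_pos (by omega)]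
        have hf1 := factorial_ne_zero p (i := x) (by omega)
        have hf2 := factorial_ne_zero p (i := p - x) (by omega)
        field_simp
        linear_combination h3
      · intro m _ hm; rw [if_neg fun hh => hm (Nat.eq_of_mul_eq_mul_left hq hh.1)]
      · intro hn; exact absurd (Finset.mem_Ioo.2 ⟨hx, by omega⟩) hn
    · refine Finset.sum_eq_zero fun m hm => if_neg fun hh => h ?_
      obtain ⟨h1, h2⟩ := Finset.mem_Ioo.1 hm
      exact ⟨hh.1 ▸ Nat.mul_pos hq h1, hh.2 ▸ Nat.mul_pos hq (by omega)⟩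
  · have h0 : W p (p ^ k) i = 0 := by rw [W, if_neg hd]
    rw [h0, map_zero, neg_zero, ite_self]
    exact Finset.sum_eq_zero fun m _ => if_neg fun hh => hd ⟨m, hh.1.symm⟩

theorem coeff_ψ_Sp_of_ne (k i j : ℕ) (hij : i + j ≠ p ^ (k + 1)) : coeff (e2 i j) (ψ p k (Sp p R)) = 0 := by
  rw [Sp, map_sum, coeff_sum]
  refine Finset.sum_eq_zero fun m hm => ?_
  rw [show ψ p k (C ((p.choose m / p : ℕ) : R) * X 0 ^ m * X 1 ^ (p - m)) =
      monomial (e2 (p ^ k * m) (p ^ k * (p - m))) ((p.choose m / p : ℕ) : R) by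
    rw [monomial_e2]; simp [ψ, pow_mul], coeff_monomial, if_neg]
  rw [e2_inj]
  rintro ⟨rfl, rfl⟩
  exact hij (by rw [← mul_add, Nat.add_sub_of_le (Finset.mem_Ioo.1 hm).2.le, pow_succ])

/-- the normal form -/
def NF (F : MvPolynomial (Fin 2) R) : Prop :=
  ∃ (G : Polynomial R) (N : ℕ) (r : ℕ → R), F = Polynomial.aeval (X 0 + X 1 : MvPolynomial (Fin 2) R) G -
    Polynomial.aeval (X 0 : MvPolynomial (Fin 2) R) G - Polynomial.aeval (X 1 : MvPolynomial (Fin 2) R) G +
    ∑ i ∈ Finset.range N, C (r i) * ψ p i (Sp p R)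

theorem NF_zero : NF p (0 : MvPolynomial (Fin 2) R) := ⟨0, 0, 0, by simp⟩

theorem NF_add {F F' : MvPolynomial (Fin 2) R} (h : NF p F) (h' : NF p F') : NF p (F + F') := by
  obtain ⟨G, N, r, rfl⟩ := h
  obtain ⟨G', N', r', rfl⟩ := h'
  refine ⟨G + G', max N N', fun i => (if i < N then r i else 0) + (if i < N' then r' i else 0), ?_⟩
  have h1 : ∀ (r : ℕ → R) (N M : ℕ), N ≤ M →
      ∑ i ∈ Finset.range M, C (if i < N then r i else 0) * ψ p i (Sp p R) =
        ∑ i ∈ Finset.range N, C (r i) * ψ p i (Sp p R) := fun r N M hNM => by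
    rw [← Finset.sum_subset (Finset.range_mono hNM) fun i _ hi => by
      rw [if_neg (by simpa using hi), map_zero, zero_mul]]
    exact Finset.sum_congr rfl fun i hi => by rw [if_pos (Finset.mem_range.1 hi)]
  simp only [map_add, add_mul, Finset.sum_add_distrib, h1 r N _ (le_max_left _ _), h1 r' N' _ (le_max_right _ _)]
  ring

theorem symmetricCocycle_iff (F : MvPolynomial (Fin 2) R) :
    (swp F = F ∧ q1 F + p23 F - q2 F - p12 F = 0) ↔ NF p F := by
  classical
  letI : Algebra (ZMod p) R := ZMod.algebra R p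
  constructor
  · rintro ⟨hs, hc⟩
    have hlin : IsLinCoc p fun i j => coeff (e2 i j) F := by
      refine ⟨fun i j => ?_, fun i j l => ?_⟩
      · conv_lhs => rw [← hs]
        rw [coeff_swp]
      · have h := congrArg (coeff (e3 i j l)) hc
        rw [coeff_sub, coeff_sub, coeff_add, coeff_zero, coeff_q1, coeff_p23, coeff_q2, coeff_p12] at h
        simp only [Algebra.smul_def, map_natCast]
        linear_combination h
    rw [← sum_comp F]
    refine Finset.sum_induction _ (NF p) (fun _ _ => NF_add p) (NF_zero p) fun n _ => ?_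
    rcases Nat.eq_zero_or_pos n with rfl | hn
    · exact ⟨-Polynomial.C (coeff (e2 0 0) F), 0, 0, by simp [comp, monomial_e2]⟩
    rcases lazard n hn hlin with ⟨g, hg⟩ | ⟨k, m, rfl, hm⟩
    · refine ⟨Polynomial.C g * Polynomial.X ^ n, 0, 0, ext_e2 fun i j => ?_⟩
      rw [coeff_comp, Finset.range_zero, Finset.sum_empty, add_zero, coeff_sub, coeff_sub]
      have h0 : ∀ i j, coeff (e2 i j) (Polynomial.aeval (X 0 : MvPolynomial (Fin 2) R) (Polynomial.C g * Polynomial.X ^ n)) =
          if i = n ∧ j = 0 then g else 0 := fun i j => by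
        rw [map_mul, map_pow, Polynomial.aeval_C, Polynomial.aeval_X, algebraMap_eq,
          show C g * (X 0 : MvPolynomial (Fin 2) R) ^ n = monomial (e2 n 0) g by rw [monomial_e2]; simp, coeff_monomial]
        simp only [e2_inj]
        split_ifs <;> first | rfl | (exfalso; omega)
      have h1 : ∀ i j, coeff (e2 i j) (Polynomial.aeval (X 1 : MvPolynomial (Fin 2) R) (Polynomial.C g * Polynomial.X ^ n)) =
          if i = 0 ∧ j = n then g else 0 := fun i j => by
        rw [map_mul, map_pow, Polynomial.aeval_C, Polynomial.aeval_X, algebraMap_eq,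
          show C g * (X 1 : MvPolynomial (Fin 2) R) ^ n = monomial (e2 0 n) g by rw [monomial_e2]; simp, coeff_monomial]
        simp only [e2_inj]
        split_ifs <;> first | rfl | (exfalso; omega)
      have hsum : Polynomial.aeval (X 0 + X 1 : MvPolynomial (Fin 2) R) (Polynomial.C g * Polynomial.X ^ n) =
          ∑ m ∈ Finset.range (n + 1), monomial (e2 m (n - m)) ((n.choose m : R) * g) := by
        simp only [map_mul, map_pow, Polynomial.aeval_C, Polynomial.aeval_X, algebraMap_eq, add_pow, Finset.mul_sum,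
          monomial_e2, map_natCast]
        exact Finset.sum_congr rfl fun m _ => by ring
      rw [h0, h1, hsum, coeff_sum]
      simp only [coeff_monomial, e2_inj]
      by_cases hij : i + j = n
      · have h := hg i j hij
        rw [if_pos hij, Finset.sum_eq_single i, if_pos ⟨rfl, by omega⟩, h]
        · by_cases hpos : 0 < i ∧ 0 < j
          · rw [if_pos hpos, if_neg (by omega), if_neg (by omega)]
            simp [Algebra.smul_def]
          · rw [if_neg hpos]
            rcases Nat.eq_zero_or_pos i with rfl | hi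
            · simp [show j = n by omega, hn.ne']
            · obtain rfl : j = 0 := by omega
              simp [show i = n by omega, hn.ne']
        · intro m _ hm; rw [if_neg (fun hh => hm hh.1)]
        · intro hi; exact absurd (Finset.mem_range.2 (by omega)) hi
      · rw [if_neg hij, Finset.sum_eq_zero (fun m hm => if_neg fun hh => hij (by
          have := Finset.mem_range.1 hm; omega)), if_neg (by omega), if_neg (by omega)]
        ring
    · refine ⟨0, k + 1, fun i => if i = k then -m else 0, ext_e2 fun i j => ?_⟩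
      rw [Finset.sum_eq_single k]
      · simp only [map_zero, sub_zero, zero_add, if_pos rfl]
        rw [coeff_comp, coeff_C_mul]
        split_ifs with hij
        · rw [coeff_ψ_Sp p k i j hij]
          have h := hm i j hij
          rw [h]
          split_ifs <;> simp [Algebra.smul_def, mul_comm]
        · rw [coeff_ψ_Sp_of_ne p k i j hij, mul_zero]
      · intro b _ hb; simp [if_neg hb]
      · intro hk; exact absurd (Finset.mem_range.2 (Nat.lt_succ_self k)) hk
  · rintro ⟨G, N, r, rfl⟩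
    exact (isAdd_coboundary G).add (Finset.sum_induction _ IsAdd (fun _ _ => IsAdd.add)
      ⟨map_zero _, by simp⟩ fun i _ => ((isAdd_Sp p).frob p i).C_mul (r i))

end GaDualLib
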