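import Groth.Agent.CommAlgDim.DerivField
import Mathlib.RingTheory.Kaehler.Basic
import Mathlib.RingTheory.Localization.FractionRing
import Mathlib.RingTheory.IntegralClosure.IntegrallyClosed

/-! Elements with zero differential in normal domains of characteristic `p`. -/

set_option autoImplicit false

namespace GaDualLib

open TrivSqZeroExt

universe u v

theorem exists_pow_eq_of_D_eq_zero_field (p : ℕ) [Fact p.Prime] {A : Type u} {K : Type v} [CommRing A] [Field K]
    [CharP K p] [Algebra A K] (s : A) (hs : KaehlerDifferential.D ℤ A s = 0) :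
    ∃ b : K, b ^ p = algebraMap A K s := by
  by_contra h
  push Not at h
  obtain ⟨χ, hfst, hsnd⟩ := CommAlgDim.exists_derivation_one K p (algebraMap A K s) h
  let d : Derivation ℤ A K := Derivation.mk'
    { toFun := fun x => snd (χ (algebraMap A K x))
      map_add' := fun x y => by simp
      map_smul' := fun n x => by simp } fun x y => by
    show snd (χ (algebraMap A K (x * y))) = x • snd (χ (algebraMap A K y)) + y • snd (χ (algebraMap A K x))
    rw [map_mul, map_mul, TrivSqZeroExt.snd_mul, hfst, hfst, op_smul_eq_smul, smul_eq_mul, smul_eq_mul,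
      Algebra.smul_def, Algebra.smul_def]
  have h1 : d s = 0 := by rw [← d.liftKaehlerDifferential_comp_D s, hs, map_zero]
  exact one_ne_zero (hsnd.symm.trans h1)

theorem exists_pow_eq_of_D_eq_zero (p : ℕ) [Fact p.Prime] {A : Type u} [CommRing A] [IsDomain A]
    [IsIntegrallyClosed A] [CharP A p] (s : A) (hs : KaehlerDifferential.D ℤ A s = 0) : ∃ f : A, f ^ p = s := by
  have : CharP (FractionRing A) p :=
    charP_of_injective_algebraMap (IsFractionRing.injective A (FractionRing A)) p
  obtain ⟨b, hb⟩ := exists_pow_eq_of_D_eq_zero_field p (K := FractionRing A) s hs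
  obtain ⟨f, hf⟩ := IsIntegrallyClosed.exists_algebraMap_eq_of_isIntegral_pow (K := FractionRing A)
    (Fact.out : p.Prime).pos (x := b) (hb ▸ isIntegral_algebraMap)
  exact ⟨f, IsFractionRing.injective A (FractionRing A) (by rw [map_pow, hf, hb])⟩

end GaDualLib
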