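import Groth.Agent.GaDualLib.Char

/-! Characters of the additive group over `ℚ`-algebras. -/

set_option autoImplicit false

namespace GaDualLib

universe u

variable {A : Type u} [CommRing A] [Algebra ℚ A]

theorem formalCharacter_rat_iff (χ : PowerSeries A) :
    (PowerSeries.constantCoeff χ = 1 ∧
      PowerSeries.subst (MvPowerSeries.X 0 + MvPowerSeries.X 1 : MvPowerSeries (Fin 2) A) χ =
        PowerSeries.subst (MvPowerSeries.X 0 : MvPowerSeries (Fin 2) A) χ *
          PowerSeries.subst (MvPowerSeries.X 1 : MvPowerSeries (Fin 2) A) χ) ↔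
    ∃ a : A, χ = PowerSeries.rescale a (PowerSeries.exp A) := by
  have hcast : ∀ n : ℕ, n ≠ 0 → IsUnit (n : A) := fun n hn => by
    rw [← map_natCast (algebraMap ℚ A)]
    exact (isUnit_iff_ne_zero.2 (Nat.cast_ne_zero.2 hn)).map _
  have hcoef : ∀ (a : A) n, (n.factorial : A) * PowerSeries.coeff n (PowerSeries.rescale a (PowerSeries.exp A)) = a ^ n :=
    fun a n => by
      rw [PowerSeries.coeff_rescale, PowerSeries.coeff_exp, ← map_natCast (algebraMap ℚ A), mul_left_comm, ← map_mul,
        mul_one_div_cancel (Nat.cast_ne_zero.2 n.factorial_ne_zero), map_one, mul_one]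
  constructor
  · rintro ⟨h0, h⟩
    refine ⟨PowerSeries.coeff 1 χ, PowerSeries.ext fun n => ?_⟩
    refine (hcast _ n.factorial_ne_zero).mul_left_cancel ?_
    rw [hcoef]
    induction n with
    | zero => simp [h0]
    | succ n IH =>
      have h1 := congrArg (MvPowerSeries.coeff (e2 1 n)) h
      rw [PowerSeries.coeff_subst_X_zero_add_X_one, PowerSeries.coeff_subst_X_zero_subst_mul_X_one] at h1
      simp [e2, Nat.add_comm 1 n] at h1
      rw [pow_succ', ← IH, Nat.factorial_succ, Nat.cast_mul, Nat.cast_succ]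
      linear_combination (n.factorial : A) * h1
  · rintro ⟨a, rfl⟩
    refine ⟨?_, MvPowerSeries.ext fun e => ?_⟩
    · rw [← PowerSeries.coeff_zero_eq_constantCoeff_apply, PowerSeries.coeff_rescale, PowerSeries.coeff_exp]
      simp
    · rw [PowerSeries.coeff_subst_X_zero_add_X_one, PowerSeries.coeff_subst_X_zero_subst_mul_X_one]
      refine ((hcast _ (e 0).factorial_ne_zero).mul (hcast _ (e 1).factorial_ne_zero)).mul_left_cancel ?_
      have h1 := congrArg (fun t : ℕ => (t : A)) (Nat.choose_mul_factorial_mul_factorial (Nat.le_add_right (e 0) (e 1)))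
      simp only [Nat.add_sub_cancel_left, Nat.cast_mul] at h1
      have ha := hcoef a (e 0)
      have hb := hcoef a (e 1)
      have hab := hcoef a (e 0 + e 1)
      rw [pow_add] at hab
      set c := fun k => PowerSeries.coeff k (PowerSeries.rescale a (PowerSeries.exp A)) with hc
      linear_combination (c (e 0 + e 1)) * h1 + hab - ((e 1).factorial : A) * (c (e 1)) * ha - a ^ (e 0) * hb

theorem polyCharacter_rat_iff (f : Polynomial A) :
    (f.eval 0 = 1 ∧ Polynomial.aeval (MvPolynomial.X 0 + MvPolynomial.X 1 : MvPolynomial (Fin 2) A) f =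
      Polynomial.aeval (MvPolynomial.X 0 : MvPolynomial (Fin 2) A) f *
        Polynomial.aeval (MvPolynomial.X 1 : MvPolynomial (Fin 2) A) f) ↔
    ∃ a : A, IsNilpotent a ∧ (f : PowerSeries A) = PowerSeries.rescale a (PowerSeries.exp A) := by
  have hiff : (f.eval 0 = 1 ∧ Polynomial.aeval (MvPolynomial.X 0 + MvPolynomial.X 1 : MvPolynomial (Fin 2) A) f =
      Polynomial.aeval (MvPolynomial.X 0 : MvPolynomial (Fin 2) A) f *
        Polynomial.aeval (MvPolynomial.X 1 : MvPolynomial (Fin 2) A) f) ↔
      (PowerSeries.constantCoeff (f : PowerSeries A) = 1 ∧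
      PowerSeries.subst (MvPowerSeries.X 0 + MvPowerSeries.X 1 : MvPowerSeries (Fin 2) A) (f : PowerSeries A) =
        PowerSeries.subst (MvPowerSeries.X 0 : MvPowerSeries (Fin 2) A) (f : PowerSeries A) *
          PowerSeries.subst (MvPowerSeries.X 1 : MvPowerSeries (Fin 2) A) (f : PowerSeries A)) := by
    rw [Polynomial.constantCoeff_coe, Polynomial.coeff_zero_eq_eval_zero, MvPolynomial.ext_iff, MvPowerSeries.ext_iff]
    refine and_congr_right fun _ => forall_congr' fun e => ?_
    rw [PowerSeries.coeff_subst_X_zero_add_X_one, PowerSeries.coeff_subst_X_zero_subst_mul_X_one,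
      Polynomial.coeff_coe, Polynomial.coeff_coe, Polynomial.coeff_coe, e2_eta e, coeff_aeval_X_add_X,
      coeff_aeval_X0_mul_aeval_X1]
    simp [e2]
  rw [hiff, formalCharacter_rat_iff]
  refine ⟨fun ⟨a, ha⟩ => ⟨a, ⟨f.natDegree + 1, ?_⟩, ha⟩, fun ⟨a, _, ha⟩ => ⟨a, ha⟩⟩
  have h := congrArg (PowerSeries.coeff (f.natDegree + 1)) ha
  rw [Polynomial.coeff_coe, Polynomial.coeff_eq_zero_of_natDegree_lt (Nat.lt_succ_self _), PowerSeries.coeff_rescale,
    PowerSeries.coeff_exp] at h
  have hu : IsUnit (algebraMap ℚ A (1 / ((f.natDegree + 1).factorial : ℚ))) :=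
    (isUnit_iff_ne_zero.2 (one_div_ne_zero (Nat.cast_ne_zero.2 (Nat.factorial_ne_zero _)))).map _
  refine hu.mul_left_injective ?_
  simpa using h.symm

end GaDualLib
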