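import Groth.Agent.GaDualLib.Char
import Groth.Prelude.Def_AlphaPn
import Groth.Prelude.Def_SekSuwa
import Mathlib.RingTheory.Coalgebra.GroupLike

/-! Group-like elements of `α_{p^n}` lift to the additive group. -/

set_option autoImplicit false

namespace GaDualLib

open scoped TensorProduct

universe u

variable (p : ℕ) [Fact p.Prime] {A : Type u} [CommRing A] [CharP A p]

theorem exists_groupLike_lift (n : ℕ) (φ : SekSuwa.A A 0 →ₐc[A] AlphaPn.A p n A)
    (hφ : φ SekSuwa.A.t = AlphaPn.x p n A) (u : AlphaPn.A p n A) (hu : IsGroupLikeElem A u) :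
    ∃ g : SekSuwa.A A 0, IsGroupLikeElem A g ∧ φ g = u := by
  obtain ⟨f0, hf0⟩ := AlphaPn.mk_surjective p n A u
  have hmonic : ((Polynomial.X : Polynomial A) ^ p ^ n).Monic := Polynomial.monic_X_pow _
  have : Nontrivial A := CharP.nontrivial_of_char_ne_one (Fact.out : p.Prime).one_lt.ne'
  set f := f0 %ₘ ((Polynomial.X : Polynomial A) ^ p ^ n) with hf
  have hdeg : f.natDegree < p ^ n := by
    have h := Polynomial.natDegree_modByMonic_lt f0 hmonic (fun h => by
      have := congrArg Polynomial.natDegree h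
      rw [Polynomial.natDegree_X_pow, Polynomial.natDegree_one] at this
      exact absurd this (pow_ne_zero n (Fact.out : p.Prime).ne_zero))
    rwa [Polynomial.natDegree_X_pow] at h
  have hfu : AlphaPn.mk p n A f = u := by
    rw [← hf0, hf, Polynomial.modByMonic_eq_sub_mul_div f0, map_sub, map_mul, map_pow, AlphaPn.mk_X, AlphaPn.x_pow,
      zero_mul, sub_zero]
  have h0 : f.eval 0 = 1 := by
    have h := hu.counit_eq_one
    rw [← hfu, ← AlphaPn.aeval_x, show Coalgebra.counit (R := A) (Polynomial.aeval (AlphaPn.x p n A) f) =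
      Polynomial.aeval (Bialgebra.counitAlgHom A _ (AlphaPn.x p n A)) f from
        (Polynomial.aeval_algHom_apply (Bialgebra.counitAlgHom A (AlphaPn.A p n A)) _ f).symm] at h
    rwa [show Bialgebra.counitAlgHom A _ (AlphaPn.x p n A) = 0 from AlphaPn.counit_x p n A,
      Polynomial.coe_aeval_eq_eval] at h
  let J : Ideal (MvPolynomial (Fin 2) A) :=
    Ideal.span {(MvPolynomial.X 0 ^ p ^ n : MvPolynomial (Fin 2) A), MvPolynomial.X 1 ^ p ^ n}
  let l : AlphaPn.A p n A →ₐ[A] MvPolynomial (Fin 2) A ⧸ J :=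
    AlphaPn.lift p n A (Ideal.Quotient.mk J (MvPolynomial.X 0)) (by
      rw [← map_pow, Ideal.Quotient.eq_zero_iff_mem]; exact Ideal.subset_span (Set.mem_insert _ _))
  let r : AlphaPn.A p n A →ₐ[A] MvPolynomial (Fin 2) A ⧸ J :=
    AlphaPn.lift p n A (Ideal.Quotient.mk J (MvPolynomial.X 1)) (by
      rw [← map_pow, Ideal.Quotient.eq_zero_iff_mem]; exact Ideal.subset_span (Set.mem_insert_of_mem _ rfl))
  let T : AlphaPn.A p n A ⊗[A] AlphaPn.A p n A →ₐ[A] MvPolynomial (Fin 2) A ⧸ J :=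
    Algebra.TensorProduct.lift l r fun _ _ => Commute.all _ _
  have hmul : Ideal.Quotient.mk J (Polynomial.aeval (MvPolynomial.X 0 + MvPolynomial.X 1 : MvPolynomial (Fin 2) A) f) =
      Ideal.Quotient.mk J (Polynomial.aeval (MvPolynomial.X 0 : MvPolynomial (Fin 2) A) f *
        Polynomial.aeval (MvPolynomial.X 1 : MvPolynomial (Fin 2) A) f) := by
    have hq : ∀ v : MvPolynomial (Fin 2) A, Ideal.Quotient.mk J (Polynomial.aeval v f) =
        Polynomial.aeval (Ideal.Quotient.mkₐ A J v) f := fun v =>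
      (Polynomial.aeval_algHom_apply (Ideal.Quotient.mkₐ A J) v f).symm
    have h := congrArg T hu.comul_eq_tmul_self
    rw [Algebra.TensorProduct.lift_tmul l r] at h
    rw [← hfu, ← AlphaPn.aeval_x, ← Polynomial.aeval_algHom_apply l, ← Polynomial.aeval_algHom_apply r,
      AlphaPn.lift_x, AlphaPn.lift_x] at h
    rw [show T (Coalgebra.comul (R := A) (Polynomial.aeval (AlphaPn.x p n A) f)) =
      Polynomial.aeval (T (Bialgebra.comulAlgHom A _ (AlphaPn.x p n A))) f from
        ((Polynomial.aeval_algHom_apply T _ f).trans (congrArg T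
          (Polynomial.aeval_algHom_apply (Bialgebra.comulAlgHom A (AlphaPn.A p n A)) _ f))).symm,
      show Bialgebra.comulAlgHom A _ (AlphaPn.x p n A) = AlphaPn.x p n A ⊗ₜ[A] 1 + 1 ⊗ₜ[A] AlphaPn.x p n A from
        AlphaPn.comul_x p n A, map_add, Algebra.TensorProduct.lift_tmul l r, Algebra.TensorProduct.lift_tmul l r,
      map_one, map_one, mul_one, one_mul, AlphaPn.lift_x, AlphaPn.lift_x] at h
    rw [map_mul, hq, hq, hq, map_add]
    exact h
  obtain ⟨a, ha, hfa⟩ := alphaPn_character p hdeg h0 hmul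
  obtain ⟨h0', hchar⟩ := prod_expp_mul p a ha n
  rw [← hfa] at h0' hchar
  refine ⟨Polynomial.aeval (SekSuwa.A.t : SekSuwa.A A 0) f, ⟨?_, ?_⟩, ?_⟩
  · rw [show Coalgebra.counit (R := A) (Polynomial.aeval (SekSuwa.A.t : SekSuwa.A A 0) f) =
      Polynomial.aeval (Bialgebra.counitAlgHom A (SekSuwa.A A 0) SekSuwa.A.t) f from
        (Polynomial.aeval_algHom_apply (Bialgebra.counitAlgHom A (SekSuwa.A A 0)) _ f).symm,
      show Bialgebra.counitAlgHom A (SekSuwa.A A 0) SekSuwa.A.t = 0 from SekSuwa.A.counit_t,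
      Polynomial.coe_aeval_eq_eval, h0']
  · rw [show Coalgebra.comul (R := A) (Polynomial.aeval (SekSuwa.A.t : SekSuwa.A A 0) f) =
      Polynomial.aeval (Bialgebra.comulAlgHom A (SekSuwa.A A 0) SekSuwa.A.t) f from
        (Polynomial.aeval_algHom_apply (Bialgebra.comulAlgHom A (SekSuwa.A A 0)) _ f).symm,
      show Bialgebra.comulAlgHom A (SekSuwa.A A 0) SekSuwa.A.t =
        SekSuwa.A.t ⊗ₜ[A] 1 + 1 ⊗ₜ[A] (SekSuwa.A.t : SekSuwa.A A 0) from
          SekSuwa.A.comul_t.trans (by rw [zero_smul, add_zero])]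
    let W : MvPolynomial (Fin 2) A →ₐ[A] SekSuwa.A A 0 ⊗[A] SekSuwa.A A 0 :=
      MvPolynomial.aeval ![(SekSuwa.A.t : SekSuwa.A A 0) ⊗ₜ[A] 1, 1 ⊗ₜ[A] (SekSuwa.A.t : SekSuwa.A A 0)]
    have h := congrArg W hchar
    rw [map_mul, ← Polynomial.aeval_algHom_apply W, ← Polynomial.aeval_algHom_apply W, ← Polynomial.aeval_algHom_apply W] at h
    simp only [W, map_add, MvPolynomial.aeval_X, Matrix.cons_val_zero, Matrix.cons_val_one] at h
    rw [h, show (SekSuwa.A.t : SekSuwa.A A 0) ⊗ₜ[A] (1 : SekSuwa.A A 0) =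
        Algebra.TensorProduct.includeLeft (S := A) SekSuwa.A.t from rfl,
      show (1 : SekSuwa.A A 0) ⊗ₜ[A] (SekSuwa.A.t : SekSuwa.A A 0) =
        Algebra.TensorProduct.includeRight SekSuwa.A.t from rfl,
      Polynomial.aeval_algHom_apply, Polynomial.aeval_algHom_apply, Algebra.TensorProduct.includeLeft_apply,
      Algebra.TensorProduct.includeRight_apply, Algebra.TensorProduct.tmul_mul_tmul, mul_one, one_mul]
  · rw [← Polynomial.aeval_algHom_apply φ, hφ, AlphaPn.aeval_x, hfu]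

end GaDualLib
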