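import Groth.Agent.GaDualLib.Split

/-! Characters of the additive group in characteristic `p` and over `ℚ`-algebras, in terms of coefficients. -/

set_option autoImplicit false

namespace GaDualLib

open MvPolynomial

universe u

variable {A : Type u} [CommRing A]

theorem coeff_aeval_X0_mul_aeval_X1 (f g : Polynomial A) (i j : ℕ) :
    coeff (e2 i j) (Polynomial.aeval (X 0 : MvPolynomial (Fin 2) A) f * Polynomial.aeval (X 1) g) =
      f.coeff i * g.coeff j := by
  induction f using Polynomial.induction_on' with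
  | add a b ha hb => rw [map_add, add_mul, coeff_add, ha, hb, Polynomial.coeff_add, add_mul]
  | monomial n r =>
    induction g using Polynomial.induction_on' with
    | add a b ha hb => rw [map_add, mul_add, coeff_add, ha, hb, Polynomial.coeff_add, mul_add]
    | monomial m s =>
      rw [Polynomial.aeval_monomial, Polynomial.aeval_monomial, algebraMap_eq,
        show C r * (X 0 : MvPolynomial (Fin 2) A) ^ n * (C s * X 1 ^ m) = monomial (e2 n m) (r * s) by
          rw [monomial_e2, map_mul]; ring]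
      simp only [coeff_monomial, Polynomial.coeff_monomial, e2_inj]
      split_ifs <;> simp_all

theorem coeff_aeval_X_add_X (f : Polynomial A) (i j : ℕ) :
    coeff (e2 i j) (Polynomial.aeval (X 0 + X 1 : MvPolynomial (Fin 2) A) f) =
      ((i + j).choose i : A) * f.coeff (i + j) := by
  induction f using Polynomial.induction_on' with
  | add a b ha hb => rw [map_add, coeff_add, ha, hb, Polynomial.coeff_add, mul_add]
  | monomial n r =>
    have hsum : C r * (X 0 + X 1 : MvPolynomial (Fin 2) A) ^ n =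
        ∑ m ∈ Finset.range (n + 1), monomial (e2 m (n - m)) (r * (n.choose m : A)) := by
      simp only [add_pow, Finset.mul_sum, monomial_e2, map_mul, map_natCast]
      exact Finset.sum_congr rfl fun m _ => by ring
    rw [Polynomial.aeval_monomial, algebraMap_eq, hsum, coeff_sum, Polynomial.coeff_monomial]
    simp only [coeff_monomial, e2_inj]
    by_cases h : n = i + j
    · subst h
      rw [Finset.sum_eq_single i]
      · simp [mul_comm]
      · intro m hm hmj; rw [if_neg (fun hh => hmj hh.1)]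
      · intro hj; exact absurd (Finset.mem_range.2 (by omega)) hj
    · rw [if_neg h, mul_zero]
      refine Finset.sum_eq_zero fun m hm => if_neg fun hh => h ?_
      have := Finset.mem_range.1 hm
      omega

theorem choose_add_mul_pow (p : ℕ) [Fact p.Prime] (d n : ℕ) :
    ∀ r < p ^ n, (r + d * p ^ n).choose r ≡ 1 [MOD p] := by
  induction n with
  | zero => intro r hr; obtain rfl : r = 0 := by simpa using hr
            simp [Nat.ModEq.refl]
  | succ n IH =>
    intro r hr
    have hp := (Fact.out : p.Prime)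
    refine Choose.choose_modEq_choose_mod_mul_choose_div_nat.trans ?_
    rw [show r + d * p ^ (n + 1) = r + p * (d * p ^ n) by ring, Nat.add_mul_mod_self_left,
      Nat.add_mul_div_left _ _ hp.pos, Nat.choose_self, one_mul]
    exact IH _ (Nat.div_lt_of_lt_mul (by rwa [pow_succ'] at hr))

/-- `c` satisfies the character relations below the bound `B`. -/
def IsChar (B : ℕ) (c : ℕ → A) : Prop :=
  c 0 = 1 ∧ ∀ i j, i < B → j < B → c i * c j = ((i + j).choose i : A) * c (i + j)

theorem isChar_of_eq {f : Polynomial A} (h0 : f.eval 0 = 1)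
    (h : Polynomial.aeval (X 0 + X 1 : MvPolynomial (Fin 2) A) f =
      Polynomial.aeval (X 0) f * Polynomial.aeval (X 1) f) (B : ℕ) : IsChar B fun m => f.coeff m := by
  refine ⟨by show f.coeff 0 = 1; rw [Polynomial.coeff_zero_eq_eval_zero]; exact h0, fun i j _ _ => ?_⟩
  rw [← coeff_aeval_X0_mul_aeval_X1, ← h, coeff_aeval_X_add_X]

section charP

variable (p : ℕ) [Fact p.Prime] [CharP A p]

/-- the truncated exponential `exp_p (a X ^ q)` -/
noncomputable def expp (a : A) (q : ℕ) : Polynomial A :=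
  ∑ j ∈ Finset.range p, Polynomial.C (Ring.inverse (j.factorial : A) * a ^ j) * Polynomial.X ^ (j * q)

theorem algebraMap_natCast' [Algebra (ZMod p) A] (n : ℕ) : algebraMap (ZMod p) A (n : ZMod p) = (n : A) :=
  map_natCast _ n

theorem inverse_factorial [Algebra (ZMod p) A] {j : ℕ} (hj : j < p) :
    Ring.inverse (j.factorial : A) = algebraMap (ZMod p) A (κ p j) := by
  have h : (j.factorial : A) * algebraMap (ZMod p) A (κ p j) = 1 := by
    rw [← algebraMap_natCast' p, ← map_mul, κ, if_pos hj, mul_inv_cancel₀ (factorial_ne_zero p hj), map_one]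
  rw [← left_inv_eq_right_inv (Ring.inverse_mul_cancel _ (IsUnit.of_mul_eq_one _ h)) h]

theorem expp_eq [Algebra (ZMod p) A] (a : A) (q : ℕ) :
    expp p a q = Polynomial.aeval (Polynomial.C a * Polynomial.X ^ q) (E0 p) := by
  rw [aeval_E0_eq]
  refine Finset.sum_congr rfl fun j hj => ?_
  rw [inverse_factorial p (Finset.mem_range.1 hj), mul_pow, ← pow_mul, mul_comm q j, map_mul, map_pow,
    IsScalarTower.algebraMap_apply (ZMod p) A (Polynomial A), Polynomial.algebraMap_eq]
  ring

theorem natDegree_expp_le (a : A) (q : ℕ) : (expp p a q).natDegree ≤ (p - 1) * q := by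
  refine Polynomial.natDegree_sum_le_of_forall_le _ _ fun j hj => ?_
  refine (Polynomial.natDegree_C_mul_X_pow_le _ _).trans (Nat.mul_le_mul_right q ?_)
  have := Finset.mem_range.1 hj
  omega

theorem expp_mul {a : A} (ha : a ^ p = 0) (k : ℕ) :
    Polynomial.aeval (X 0 + X 1 : MvPolynomial (Fin 2) A) (expp p a (p ^ k)) =
      Polynomial.aeval (X 0) (expp p a (p ^ k)) * Polynomial.aeval (X 1) (expp p a (p ^ k)) := by
  letI : Algebra (ZMod p) A := ZMod.algebra A p
  have hp := (Fact.out : p.Prime)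
  have hq : 0 < p ^ k := pow_pos hp.pos k
  set z : Polynomial A := Polynomial.C a * Polynomial.X ^ p ^ k with hz
  have hθ : ∀ v : MvPolynomial (Fin 2) A, ∀ w : MvPolynomial (Fin 2) (ZMod p),
      Polynomial.aeval v z = θ A a (p ^ k) w →
        Polynomial.aeval v (expp p a (p ^ k)) = θ A a (p ^ k) (Polynomial.aeval w (E0 p)) := fun v w hvw => by
    rw [expp_eq, ← hz, ← Polynomial.aeval_algHom_apply (θ A a (p ^ k)) w, ← hvw]
    exact (Polynomial.aeval_algHom_apply ((Polynomial.aeval v : Polynomial A →ₐ[A] _).restrictScalars (ZMod p)) z (E0 p)).symm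
  rw [hθ (X 0) (X 0) (by simp [hz, θ]), hθ (X 1) (X 1) (by simp [hz, θ]),
    hθ (X 0 + X 1) (X 0 + X 1) (by simp [hz, θ, add_pow_char_pow, mul_add]), ← map_mul, eq_comm, ← sub_eq_zero, ← map_sub]
  refine ext_e2 fun i j => ?_
  rw [coeff_θ a hq, coeff_zero]
  split_ifs
  · by_cases h : i / p ^ k + j / p ^ k < p
    · rw [show (Polynomial.aeval (X 0) (E0 p) * Polynomial.aeval (X 1) (E0 p) - Polynomial.aeval (X 0 + X 1) (E0 p)) = D0 p from rfl,
        coeff_D0 _ _ h.le, if_neg h.ne, map_zero, zero_mul]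
    · obtain ⟨t, ht⟩ := Nat.exists_eq_add_of_le (Nat.le_of_not_lt h)
      rw [ht, pow_add, ha, zero_mul, mul_zero]
  · rfl

theorem prod_expp_mul (a : ℕ → A) (ha : ∀ n, a n ^ p = 0) (m : ℕ) :
    (∏ n ∈ Finset.range m, expp p (a n) (p ^ n)).eval 0 = 1 ∧
    Polynomial.aeval (X 0 + X 1 : MvPolynomial (Fin 2) A) (∏ n ∈ Finset.range m, expp p (a n) (p ^ n)) =
      Polynomial.aeval (X 0) (∏ n ∈ Finset.range m, expp p (a n) (p ^ n)) *
        Polynomial.aeval (X 1) (∏ n ∈ Finset.range m, expp p (a n) (p ^ n)) := by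
  have hp := (Fact.out : p.Prime)
  refine ⟨?_, ?_⟩
  · rw [Polynomial.eval_prod]
    refine Finset.prod_eq_one fun n _ => ?_
    rw [expp, Polynomial.eval_finsetSum, Finset.sum_eq_single 0]
    · simp
    · intro j _ hj
      simp [zero_pow (Nat.mul_ne_zero hj (pow_ne_zero n hp.ne_zero))]
    · intro h; exact absurd (Finset.mem_range.2 hp.pos) h
  · simp only [map_prod]
    rw [← Finset.prod_mul_distrib]
    exact Finset.prod_congr rfl fun n _ => expp_mul p (ha n) n

theorem natDegree_prod_expp_lt (a : ℕ → A) (m : ℕ) :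
    (∏ n ∈ Finset.range m, expp p (a n) (p ^ n)).natDegree < p ^ m := by
  have hp := (Fact.out : p.Prime)
  induction m with
  | zero => simp
  | succ m IH =>
    rw [Finset.prod_range_succ]
    refine lt_of_le_of_lt Polynomial.natDegree_mul_le ?_
    have h := natDegree_expp_le p (a m) (p ^ m)
    obtain ⟨r, hr⟩ : ∃ r, p = r + 1 := ⟨p - 1, by have := hp.pos; omega⟩
    calc _ < p ^ m + (p - 1) * p ^ m := Nat.add_lt_add_of_lt_of_le IH h
      _ = p ^ (m + 1) := by rw [pow_succ', hr]; simp; ring

variable {p} {c : ℕ → A}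

theorem IsChar.factorial_mul {B : ℕ} (hc : IsChar B c) {k : ℕ} :
    ∀ j, (j < p → j * p ^ k < B + p ^ k → p ^ k < B → (j.factorial : A) * c (j * p ^ k) = c (p ^ k) ^ j) := by
  have hp := (Fact.out : p.Prime)
  intro j
  induction j with
  | zero => intro _ _ _; simp [hc.1]
  | succ j IH =>
    intro hj hjB hkB
    have h := hc.2 (p ^ k) (j * p ^ k) hkB (by rw [Nat.succ_mul] at hjB; omega)
    rw [show p ^ k + j * p ^ k = (j + 1) * p ^ k by ring] at h
    have hch : ((((j + 1) * p ^ k).choose (p ^ k) : ℕ) : A) = ((j + 1 : ℕ) : A) := by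
      rw [CharP.natCast_eq_natCast A p]
      have h1 : ((j + 1) * p ^ k).choose (p ^ k) ≡ (j + 1).choose 1 [MOD p] := by
        clear h hjB hkB IH
        induction k with
        | zero => simp [Nat.ModEq.refl]
        | succ k IHk =>
          refine Nat.ModEq.trans ?_ IHk
          have := (ZMod.natCast_eq_natCast_iff _ _ p).1 (choose_mul_pp p (p ^ k) (j * p ^ k))
          rw [show p ^ k + j * p ^ k = (j + 1) * p ^ k by ring,
            show p * p ^ k + p * (j * p ^ k) = (j + 1) * p ^ (k + 1) by ring, ← pow_succ'] at this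
          exact this
      rwa [Nat.choose_one_right] at h1
    rw [hch] at h
    rw [Nat.factorial_succ, Nat.cast_mul, pow_succ', mul_comm ((j + 1 : ℕ) : A), mul_assoc, ← h, mul_left_comm,
      IH (by omega) (by rw [Nat.succ_mul] at hjB; omega) hkB]

theorem IsChar.pow_p_eq_zero {B : ℕ} (hc : IsChar B c) {k : ℕ} (hk : p ^ (k + 1) ≤ B) : c (p ^ k) ^ p = 0 := by
  have hp := (Fact.out : p.Prime)
  have hkB : p ^ k < B := lt_of_lt_of_le (Nat.pow_lt_pow_right hp.one_lt (Nat.lt_succ_self k)) hk
  have hlt : (p - 1) * p ^ k < B := by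
    refine lt_of_lt_of_le ?_ hk
    rw [pow_succ']
    exact Nat.mul_lt_mul_of_pos_right (by have := hp.pos; omega) (pow_pos hp.pos k)
  have h1 := hc.factorial_mul (p := p) (k := k) (p - 1) (by have := hp.pos; omega) (by omega) hkB
  have h2 := hc.2 (p ^ k) ((p - 1) * p ^ k) hkB hlt
  rw [show p ^ k + (p - 1) * p ^ k = p * p ^ k by
    obtain ⟨r, hr⟩ : ∃ r, p = r + 1 := ⟨p - 1, by have := hp.pos; omega⟩
    rw [hr]; simp; ring] at h2
  have h3 : ((p * p ^ k).choose (p ^ k) : A) = 0 := by
    rw [CharP.cast_eq_zero_iff A p, ← pow_succ']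
    exact (Nat.Prime.dvd_choose_pow_iff hp).2 ⟨(pow_pos hp.pos k).ne',
      (Nat.pow_lt_pow_right hp.one_lt (Nat.lt_succ_self k)).ne⟩
  rw [h3, zero_mul] at h2
  calc c (p ^ k) ^ p = c (p ^ k) * c (p ^ k) ^ (p - 1) := by
        rw [← pow_succ', Nat.sub_add_cancel hp.one_le]
    _ = 0 := by rw [← h1, mul_left_comm, h2, mul_zero]

theorem IsChar.coeff_prod {n B : ℕ} (hc : IsChar B c) (hn : p ^ n ≤ B) :
    ∀ m, m < p ^ n → (∏ k ∈ Finset.range n, expp p (c (p ^ k)) (p ^ k)).coeff m = c m := by
  have hp := (Fact.out : p.Prime)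
  induction n with
  | zero =>
    intro m hm
    rw [pow_zero] at hm
    obtain rfl : m = 0 := by omega
    simp [hc.1]
  | succ n IH =>
    intro m hm
    have hle : p ^ n ≤ B := (Nat.pow_le_pow_right hp.pos (Nat.le_succ n)).trans hn
    have hq : 0 < p ^ n := pow_pos hp.pos n
    obtain ⟨r, d, hr, rfl⟩ : ∃ r d, r < p ^ n ∧ m = r + d * p ^ n :=
      ⟨m % p ^ n, m / p ^ n, Nat.mod_lt _ hq, by rw [Nat.mul_comm]; exact (Nat.mod_add_div _ _).symm⟩
    have hd : d < p := by
      by_contra h
      have : p * p ^ n ≤ d * p ^ n := Nat.mul_le_mul_right _ (Nat.le_of_not_lt h)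
      rw [pow_succ'] at hm
      omega
    rw [Finset.prod_range_succ, show expp p (c (p ^ n)) (p ^ n) = _ from rfl, expp, Finset.mul_sum,
      Polynomial.finsetSum_coeff]
    simp only [← mul_assoc, Polynomial.coeff_mul_X_pow', Polynomial.coeff_mul_C]
    rw [Finset.sum_eq_single d]
    · rw [if_pos (Nat.le_add_left _ _), Nat.add_sub_cancel, IH hle r hr]
      have hkB : p ^ n < B := lt_of_lt_of_le (Nat.pow_lt_pow_right hp.one_lt (Nat.lt_succ_self n)) hn
      have hdB : d * p ^ n < B := lt_of_le_of_lt (Nat.le_add_left _ r) (lt_of_lt_of_le hm hn)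
      have h1 := hc.factorial_mul (p := p) (k := n) d hd (by omega) hkB
      have hu : IsUnit (d.factorial : A) := by
        letI : Algebra (ZMod p) A := ZMod.algebra A p
        rw [← algebraMap_natCast' p]
        exact (isUnit_iff_ne_zero.2 (factorial_ne_zero p hd)).map _
      rw [← h1, mul_assoc, Ring.inverse_mul_cancel_left _ _ hu]
      have hch : (((r + d * p ^ n).choose r : ℕ) : A) = 1 := by
        rw [← Nat.cast_one, CharP.natCast_eq_natCast A p]
        exact choose_add_mul_pow p d n r hr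
      have h2 := hc.2 r (d * p ^ n) (lt_of_lt_of_le hr hle) hdB
      rw [hch, one_mul] at h2
      exact h2
    · intro j hj hjd
      split_ifs with h
      · suffices hh : p ^ n ≤ r + d * p ^ n - j * p ^ n by
          rw [Polynomial.coeff_eq_zero_of_natDegree_lt (lt_of_lt_of_le (natDegree_prod_expp_lt p _ n) hh)]
          simp
        rcases lt_or_gt_of_ne hjd with h' | h'
        · have : (j + 1) * p ^ n ≤ d * p ^ n := Nat.mul_le_mul_right _ h'
          rw [Nat.succ_mul] at this
          omega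
        · exfalso
          have : (d + 1) * p ^ n ≤ j * p ^ n := Nat.mul_le_mul_right _ h'
          rw [Nat.succ_mul] at this
          omega
      · rfl
    · intro h; exact absurd (Finset.mem_range.2 hd) h

variable (p)

theorem polyCharacter_iff (f : Polynomial A) :
    (f.eval 0 = 1 ∧ Polynomial.aeval (X 0 + X 1 : MvPolynomial (Fin 2) A) f =
      Polynomial.aeval (X 0 : MvPolynomial (Fin 2) A) f * Polynomial.aeval (X 1 : MvPolynomial (Fin 2) A) f) ↔
    ∃ (N : ℕ) (a : ℕ → A), (∀ n, a n ^ p = 0) ∧ f = ∏ n ∈ Finset.range N, expp p (a n) (p ^ n) := by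
  have hp := (Fact.out : p.Prime)
  constructor
  · rintro ⟨h0, h⟩
    refine ⟨f.natDegree, fun k => f.coeff (p ^ k), fun k => ?_, ?_⟩
    · exact (isChar_of_eq h0 h (p ^ (k + 1))).pow_p_eq_zero le_rfl
    · ext m
      by_cases hm : m < p ^ f.natDegree
      · exact ((isChar_of_eq h0 h (p ^ f.natDegree)).coeff_prod le_rfl m hm).symm
      · have hN : f.natDegree < p ^ f.natDegree := Nat.lt_pow_self hp.one_lt
        rw [Polynomial.coeff_eq_zero_of_natDegree_lt (by omega),
          Polynomial.coeff_eq_zero_of_natDegree_lt ((natDegree_prod_expp_lt p _ _).trans_le (Nat.le_of_not_lt hm))]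
  · rintro ⟨N, a, ha, rfl⟩
    exact prod_expp_mul p a ha N

theorem alphaPn_character {n : ℕ} {f : Polynomial A} (hdeg : f.natDegree < p ^ n) (h0 : f.eval 0 = 1)
    (hmul : Ideal.Quotient.mk (Ideal.span {(X 0 ^ p ^ n : MvPolynomial (Fin 2) A), X 1 ^ p ^ n})
        (Polynomial.aeval (X 0 + X 1 : MvPolynomial (Fin 2) A) f) =
      Ideal.Quotient.mk (Ideal.span {(X 0 ^ p ^ n : MvPolynomial (Fin 2) A), X 1 ^ p ^ n})
        (Polynomial.aeval (X 0 : MvPolynomial (Fin 2) A) f * Polynomial.aeval (X 1 : MvPolynomial (Fin 2) A) f)) :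
    ∃ a : ℕ → A, (∀ i, a i ^ p = 0) ∧ f = ∏ i ∈ Finset.range n, expp p (a i) (p ^ i) := by
  have hp := (Fact.out : p.Prime)
  have hc : IsChar (p ^ n) fun m => f.coeff m := by
    refine ⟨by show f.coeff 0 = 1; rw [Polynomial.coeff_zero_eq_eval_zero]; exact h0, fun i j hi hj => ?_⟩
    obtain ⟨u, v, huv⟩ := Ideal.mem_span_pair.1 ((Ideal.Quotient.mk_eq_mk_iff_sub_mem _ _).1 hmul)
    have h1 := congrArg (coeff (e2 i j)) huv
    rw [coeff_sub, coeff_aeval_X0_mul_aeval_X1, coeff_aeval_X_add_X, coeff_add, X_pow_eq_monomial,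
      X_pow_eq_monomial, coeff_mul_monomial', coeff_mul_monomial', if_neg, if_neg, add_zero, eq_comm, sub_eq_zero] at h1
    · exact h1.symm
    · intro hle
      have h2 := hle 1
      simp [e2] at h2
      omega
    · intro hle
      have h2 := hle 0
      simp [e2] at h2
      omega
  refine ⟨fun i => if i < n then f.coeff (p ^ i) else 0, fun i => ?_, ?_⟩
  · dsimp only
    split_ifs with h
    · exact hc.pow_p_eq_zero (Nat.pow_le_pow_right hp.pos h)
    · exact zero_pow hp.ne_zero
  · rw [Finset.prod_congr rfl (g := fun i => expp p (f.coeff (p ^ i)) (p ^ i)) fun i hi => by simp [Finset.mem_range.1 hi]]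
    ext m
    by_cases hm : m < p ^ n
    · exact (hc.coeff_prod le_rfl m hm).symm
    · rw [Polynomial.coeff_eq_zero_of_natDegree_lt (by omega),
        Polynomial.coeff_eq_zero_of_natDegree_lt ((natDegree_prod_expp_lt p _ _).trans_le (Nat.le_of_not_lt hm))]

theorem formalCharacter_iff (χ : PowerSeries A) :
    (PowerSeries.constantCoeff χ = 1 ∧
      PowerSeries.subst (MvPowerSeries.X 0 + MvPowerSeries.X 1 : MvPowerSeries (Fin 2) A) χ =
        PowerSeries.subst (MvPowerSeries.X 0 : MvPowerSeries (Fin 2) A) χ *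
          PowerSeries.subst (MvPowerSeries.X 1 : MvPowerSeries (Fin 2) A) χ) ↔
    ∃ a : ℕ → A, (∀ n, a n ^ p = 0) ∧
      ∀ m : ℕ, PowerSeries.trunc (p ^ m) χ = ∏ n ∈ Finset.range m, expp p (a n) (p ^ n) := by
  have hp := (Fact.out : p.Prime)
  constructor
  · rintro ⟨h0, h⟩
    have hc : ∀ B, IsChar B fun m => PowerSeries.coeff m χ := fun B => by
      refine ⟨by show PowerSeries.coeff 0 χ = 1; rw [PowerSeries.coeff_zero_eq_constantCoeff_apply]; exact h0, fun i j _ _ => ?_⟩
      have h1 := congrArg (MvPowerSeries.coeff (e2 i j)) h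
      rw [PowerSeries.coeff_subst_X_zero_add_X_one, PowerSeries.coeff_subst_X_zero_subst_mul_X_one] at h1
      simpa [e2] using h1.symm
    refine ⟨fun k => PowerSeries.coeff (p ^ k) χ, fun k => (hc (p ^ (k + 1))).pow_p_eq_zero le_rfl, fun m => ?_⟩
    ext d
    rw [PowerSeries.coeff_trunc]
    split_ifs with hd
    · exact ((hc (p ^ m)).coeff_prod le_rfl d hd).symm
    · rw [Polynomial.coeff_eq_zero_of_natDegree_lt ((natDegree_prod_expp_lt p _ _).trans_le (Nat.le_of_not_lt hd))]
  · rintro ⟨a, ha, h⟩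
    refine ⟨?_, ?_⟩
    · have h1 := congrArg (Polynomial.coeff · 0) (h 0)
      simpa [PowerSeries.coeff_trunc] using h1
    · refine MvPowerSeries.ext fun e => ?_
      rw [PowerSeries.coeff_subst_X_zero_add_X_one, PowerSeries.coeff_subst_X_zero_subst_mul_X_one]
      obtain ⟨m, hm⟩ : ∃ m, e 0 + e 1 < p ^ m := ⟨_, Nat.lt_pow_self hp.one_lt⟩
      obtain ⟨-, hmul⟩ := prod_expp_mul p a ha m
      have h1 := congrArg (coeff (e2 (e 0) (e 1))) hmul
      rw [coeff_aeval_X0_mul_aeval_X1, coeff_aeval_X_add_X, ← h m] at h1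
      simpa [PowerSeries.coeff_trunc, hm, show e 0 < p ^ m by omega, show e 1 < p ^ m by omega] using h1

end charP

end GaDualLib
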