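import Groth.Agent.GaDualLib.Lazard

/-! Splitting multiplicative symmetric polynomial 2-cocycles over rings with surjective Frobenius. -/

set_option autoImplicit false

namespace GaDualLib

open MvPolynomial

universe u

variable {S : Type u} [CommRing S]

/-- the exponent `(i, j)` -/
noncomputable def e2 (i j : ℕ) : Fin 2 →₀ ℕ := Finsupp.single 0 i + Finsupp.single 1 j

/-- the exponent `(i, j, l)` -/
noncomputable def e3 (i j l : ℕ) : Fin 3 →₀ ℕ := Finsupp.single 0 i + Finsupp.single 1 j + Finsupp.single 2 l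

theorem e2_eta (d : Fin 2 →₀ ℕ) : d = e2 (d 0) (d 1) := by
  ext k; fin_cases k <;> simp [e2]

@[simp] theorem e2_inj {a b i j : ℕ} : e2 a b = e2 i j ↔ a = i ∧ b = j := by
  constructor
  · intro h
    exact ⟨by simpa [e2] using DFunLike.congr_fun h 0, by simpa [e2] using DFunLike.congr_fun h 1⟩
  · rintro ⟨rfl, rfl⟩; rfl

@[simp] theorem e3_inj {a b d i j l : ℕ} : e3 a b d = e3 i j l ↔ a = i ∧ b = j ∧ d = l := by
  constructor
  · intro h
    exact ⟨by simpa [e3] using DFunLike.congr_fun h 0, by simpa [e3] using DFunLike.congr_fun h 1,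
      by simpa [e3] using DFunLike.congr_fun h 2⟩
  · rintro ⟨rfl, rfl, rfl⟩; rfl

theorem e2_zero : e2 0 0 = 0 := by simp [e2]

theorem monomial_e2 (i j : ℕ) (r : S) : monomial (e2 i j) r = C r * X 0 ^ i * X 1 ^ j := by
  rw [e2, X_pow_eq_monomial, X_pow_eq_monomial, C_mul_monomial, monomial_mul, mul_one, mul_one]

theorem monomial_e3 (i j l : ℕ) (r : S) : monomial (e3 i j l) r = C r * X 0 ^ i * X 1 ^ j * X 2 ^ l := by
  rw [e3, X_pow_eq_monomial, X_pow_eq_monomial, X_pow_eq_monomial, C_mul_monomial, monomial_mul, monomial_mul,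
    mul_one, mul_one, mul_one]

noncomputable def p12 : MvPolynomial (Fin 2) S →ₐ[S] MvPolynomial (Fin 3) S := aeval ![X 0, X 1]
noncomputable def p23 : MvPolynomial (Fin 2) S →ₐ[S] MvPolynomial (Fin 3) S := aeval ![X 1, X 2]
noncomputable def q1 : MvPolynomial (Fin 2) S →ₐ[S] MvPolynomial (Fin 3) S := aeval ![X 0, X 1 + X 2]
noncomputable def q2 : MvPolynomial (Fin 2) S →ₐ[S] MvPolynomial (Fin 3) S := aeval ![X 0 + X 1, X 2]
noncomputable def swp : MvPolynomial (Fin 2) S →ₐ[S] MvPolynomial (Fin 2) S := aeval ![X 1, X 0]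

theorem coeff_p12 (P : MvPolynomial (Fin 2) S) (i j l : ℕ) :
    coeff (e3 i j l) (p12 P) = if l = 0 then coeff (e2 i j) P else 0 := by
  induction P using MvPolynomial.induction_on' with
  | monomial d r =>
    obtain ⟨a, b, rfl⟩ : ∃ a b, d = e2 a b := ⟨_, _, e2_eta d⟩
    rw [show p12 (monomial (e2 a b) r) = monomial (e3 a b 0) r by
      rw [monomial_e2, monomial_e3]; simp [p12]]
    simp only [coeff_monomial, e2_inj, e3_inj]
    split_ifs <;> first | rfl | (exfalso; omega)
  | add P Q hP hQ => rw [map_add, coeff_add, coeff_add, hP, hQ]; split_ifs <;> simp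

theorem coeff_p23 (P : MvPolynomial (Fin 2) S) (i j l : ℕ) :
    coeff (e3 i j l) (p23 P) = if i = 0 then coeff (e2 j l) P else 0 := by
  induction P using MvPolynomial.induction_on' with
  | monomial d r =>
    obtain ⟨a, b, rfl⟩ : ∃ a b, d = e2 a b := ⟨_, _, e2_eta d⟩
    rw [show p23 (monomial (e2 a b) r) = monomial (e3 0 a b) r by
      rw [monomial_e2, monomial_e3]; simp [p23]]
    simp only [coeff_monomial, e2_inj, e3_inj]
    split_ifs <;> first | rfl | (exfalso; omega)
  | add P Q hP hQ => rw [map_add, coeff_add, coeff_add, hP, hQ]; split_ifs <;> simp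

theorem coeff_swp (P : MvPolynomial (Fin 2) S) (i j : ℕ) : coeff (e2 i j) (swp P) = coeff (e2 j i) P := by
  induction P using MvPolynomial.induction_on' with
  | monomial d r =>
    obtain ⟨a, b, rfl⟩ : ∃ a b, d = e2 a b := ⟨_, _, e2_eta d⟩
    rw [show swp (monomial (e2 a b) r) = monomial (e2 b a) r by
      rw [monomial_e2, monomial_e2]; simp [swp]; ring]
    simp only [coeff_monomial, e2_inj]
    split_ifs <;> first | rfl | (exfalso; omega)
  | add P Q hP hQ => rw [map_add, coeff_add, coeff_add, hP, hQ]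

theorem coeff_q1 (P : MvPolynomial (Fin 2) S) (i j l : ℕ) :
    coeff (e3 i j l) (q1 P) = ((j + l).choose j : S) * coeff (e2 i (j + l)) P := by
  induction P using MvPolynomial.induction_on' with
  | monomial d r =>
    obtain ⟨a, b, rfl⟩ : ∃ a b, d = e2 a b := ⟨_, _, e2_eta d⟩
    rw [show q1 (monomial (e2 a b) r) = ∑ m ∈ Finset.range (b + 1), monomial (e3 a m (b - m)) (r * (b.choose m : S)) by
      rw [monomial_e2]
      simp only [q1, map_mul, map_pow, aeval_C, aeval_X, Matrix.cons_val_zero, Matrix.cons_val_one, add_pow,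
        Finset.mul_sum, algebraMap_eq, monomial_e3, map_natCast]
      exact Finset.sum_congr rfl fun m _ => by ring]
    simp only [coeff_sum, coeff_monomial, e2_inj, e3_inj]
    by_cases h : a = i ∧ b = j + l
    · obtain ⟨rfl, rfl⟩ := h
      rw [Finset.sum_eq_single j]
      · simp [mul_comm]
      · intro m hm hmj; rw [if_neg (fun hh => hmj hh.2.1)]
      · intro hj; exact absurd (Finset.mem_range.2 (by omega)) hj
    · rw [if_neg h, mul_zero]
      refine Finset.sum_eq_zero fun m hm => if_neg fun hh => h ⟨hh.1, ?_⟩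
      have := Finset.mem_range.1 hm
      omega
  | add P Q hP hQ => rw [map_add, coeff_add, coeff_add, hP, hQ, mul_add]

theorem coeff_q2 (P : MvPolynomial (Fin 2) S) (i j l : ℕ) :
    coeff (e3 i j l) (q2 P) = ((i + j).choose i : S) * coeff (e2 (i + j) l) P := by
  induction P using MvPolynomial.induction_on' with
  | monomial d r =>
    obtain ⟨a, b, rfl⟩ : ∃ a b, d = e2 a b := ⟨_, _, e2_eta d⟩
    rw [show q2 (monomial (e2 a b) r) = ∑ m ∈ Finset.range (a + 1), monomial (e3 m (a - m) b) (r * (a.choose m : S)) by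
      rw [monomial_e2]
      simp only [q2, map_mul, map_pow, aeval_C, aeval_X, Matrix.cons_val_zero, Matrix.cons_val_one, add_pow,
        Finset.mul_sum, Finset.sum_mul, algebraMap_eq, monomial_e3, map_natCast]
      exact Finset.sum_congr rfl fun m _ => by ring]
    simp only [coeff_sum, coeff_monomial, e2_inj, e3_inj]
    by_cases h : a = i + j ∧ b = l
    · obtain ⟨rfl, rfl⟩ := h
      rw [Finset.sum_eq_single i]
      · simp [mul_comm]
      · intro m hm hmj; rw [if_neg (fun hh => hmj hh.1)]
      · intro hj; exact absurd (Finset.mem_range.2 (by omega)) hj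
    · rw [if_neg h, mul_zero]
      refine Finset.sum_eq_zero fun m hm => if_neg fun hh => h ⟨?_, hh.2.2⟩
      have := Finset.mem_range.1 hm
      omega
  | add P Q hP hQ => rw [map_add, coeff_add, coeff_add, hP, hQ, mul_add]

/-- multiplicative cocycle -/
def IsCoc (h : MvPolynomial (Fin 2) S) : Prop :=
  swp h = h ∧ p23 h * q1 h = q2 h * p12 h

section

variable (S)

noncomputable def axHom : (Polynomial S)ˣ →* (MvPolynomial (Fin 2) S)ˣ :=
  Units.map (Polynomial.aeval (X 0 : MvPolynomial (Fin 2) S)).toRingHom.toMonoidHom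

noncomputable def ayHom : (Polynomial S)ˣ →* (MvPolynomial (Fin 2) S)ˣ :=
  Units.map (Polynomial.aeval (X 1 : MvPolynomial (Fin 2) S)).toRingHom.toMonoidHom

noncomputable def addHom : (Polynomial S)ˣ →* (MvPolynomial (Fin 2) S)ˣ :=
  Units.map (Polynomial.aeval (X 0 + X 1 : MvPolynomial (Fin 2) S)).toRingHom.toMonoidHom

/-- the coboundary -/
noncomputable def Δ : (Polynomial S)ˣ →* (MvPolynomial (Fin 2) S)ˣ := axHom S * ayHom S / addHom S

variable {S}

theorem Δ_mul_add (f : (Polynomial S)ˣ) :
    (Δ S f : MvPolynomial (Fin 2) S) * Polynomial.aeval (X 0 + X 1) (f : Polynomial S) =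
      Polynomial.aeval (X 0) (f : Polynomial S) * Polynomial.aeval (X 1) (f : Polynomial S) := by
  have h : Δ S f * addHom S f = axHom S f * ayHom S f := by simp [Δ]
  exact congrArg Units.val h

theorem isCoc_Δ (f : (Polynomial S)ˣ) : IsCoc (Δ S f : MvPolynomial (Fin 2) S) := by
  have hu : ∀ x : MvPolynomial (Fin 2) S, IsUnit (Polynomial.aeval x (f : Polynomial S)) :=
    fun x => f.isUnit.map (Polynomial.aeval x)
  have hu3 : ∀ x : MvPolynomial (Fin 3) S, IsUnit (Polynomial.aeval x (f : Polynomial S)) :=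
    fun x => f.isUnit.map (Polynomial.aeval x)
  constructor
  · refine (hu (X 0 + X 1)).mul_right_cancel ?_
    rw [Δ_mul_add]
    have h := congrArg swp (Δ_mul_add f)
    simp only [map_mul, ← Polynomial.aeval_algHom_apply, map_add, swp, aeval_X, Matrix.cons_val_zero,
      Matrix.cons_val_one] at h
    rw [add_comm (X 0), mul_comm (Polynomial.aeval (X 0) (f : Polynomial S))]
    exact h
  · have h1 := congrArg p23 (Δ_mul_add f)
    have h2 := congrArg q1 (Δ_mul_add f)
    have h3 := congrArg q2 (Δ_mul_add f)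
    have h4 := congrArg p12 (Δ_mul_add f)
    simp only [map_mul, ← Polynomial.aeval_algHom_apply, map_add, p23, p12, q1, q2, aeval_X, Matrix.cons_val_zero,
      Matrix.cons_val_one] at h1 h2 h3 h4
    simp only [p23, p12, q1, q2]
    refine ((hu3 (X 1 + X 2)).mul (hu3 (X 0 + X 1 + X 2))).mul_right_cancel ?_
    refine (hu3 (X 0 + X 1)).mul_right_cancel ?_
    rw [← add_assoc] at h2
    set F := fun x : MvPolynomial (Fin 3) S => Polynomial.aeval x (f : Polynomial S)
    set d := (Δ S f : MvPolynomial (Fin 2) S)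
    calc _ = (aeval ![X 1, X 2] d * F (X 1 + X 2)) * (aeval ![X 0, X 1 + X 2] d * F (X 0 + X 1 + X 2)) * F (X 0 + X 1) := by
          ring
      _ = (F (X 1) * F (X 2)) * (F (X 0) * F (X 1 + X 2)) * F (X 0 + X 1) := by rw [h1, h2]
      _ = (F (X 0 + X 1) * F (X 2)) * (F (X 0) * F (X 1)) * F (X 1 + X 2) := by ring
      _ = (aeval ![X 0 + X 1, X 2] d * F (X 0 + X 1 + X 2)) * (aeval ![X 0, X 1] d * F (X 0 + X 1)) * F (X 1 + X 2) := by
          rw [h3, h4]
      _ = _ := by ring

theorem IsCoc.mul {h h' : MvPolynomial (Fin 2) S} (hh : IsCoc h) (hh' : IsCoc h') : IsCoc (h * h') :=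
  ⟨by rw [map_mul, hh.1, hh'.1], by
    rw [map_mul, map_mul, map_mul, map_mul, mul_mul_mul_comm, hh.2, hh'.2, mul_mul_mul_comm]⟩

theorem IsCoc.map {T : Type u} [CommRing T] (π : S →+* T) {h : MvPolynomial (Fin 2) S} (hh : IsCoc h) :
    IsCoc (MvPolynomial.map π h) := by
  have key : ∀ {σ : Type} (g : Fin 2 → MvPolynomial σ S) (x : MvPolynomial (Fin 2) S),
      MvPolynomial.map π (aeval g x) = aeval (fun k => MvPolynomial.map π (g k)) (MvPolynomial.map π x) :=
    fun g x => by rw [aeval_eq_bind₁, aeval_eq_bind₁, map_bind₁]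
  refine ⟨?_, ?_⟩
  · have h1 := congrArg (MvPolynomial.map π) hh.1
    rw [swp, key] at h1
    convert h1 using 3
    simp [swp, Function.comp_def]
    congr 1
    congr 1
    ext k; fin_cases k <;> simp
  · have h1 := congrArg (MvPolynomial.map π) hh.2
    simp only [map_mul, p12, p23, q1, q2, key] at h1
    simp only [p12, p23, q1, q2]
    convert h1 using 3 <;> congr 1 <;> ext k <;> fin_cases k <;> simp

theorem map_Δ {T : Type u} [CommRing T] (π : S →+* T) (f : (Polynomial S)ˣ) :
    MvPolynomial.map π (Δ S f : MvPolynomial (Fin 2) S) =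
      (Δ T (Units.map (Polynomial.mapRingHom π).toMonoidHom f) : MvPolynomial (Fin 2) T) := by
  have key : ∀ (x : MvPolynomial (Fin 2) S) (g : Polynomial S),
      MvPolynomial.map π (Polynomial.aeval x g) = Polynomial.aeval (MvPolynomial.map π x) (g.map π) := fun x g => by
    induction g using Polynomial.induction_on' with
    | add a b ha hb => simp [ha, hb]
    | monomial n a => simp
  have h := congrArg (MvPolynomial.map π) (Δ_mul_add f)
  have h' := Δ_mul_add (Units.map (Polynomial.mapRingHom π).toMonoidHom f)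
  simp only [map_mul, key, map_add, map_X] at h
  simp only [Units.coe_map, RingHom.toMonoidHom_eq_coe, MonoidHom.coe_coe, Polynomial.coe_mapRingHom] at h' ⊢
  refine IsUnit.mul_right_cancel ?_ (h.trans h'.symm)
  exact ((f.isUnit.map (Polynomial.mapRingHom π))).map (Polynomial.aeval _)

end

end GaDualLib
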