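import Groth.Agent.GaDualLib.KaehlerPow
import Mathlib.RingTheory.DiscreteValuationRing.Basic
import Mathlib.RingTheory.Polynomial.RationalRoot
import Mathlib.LinearAlgebra.Dimension.Finite

/-! Discrete valuation rings with `[k : k^p] = p`. -/

set_option autoImplicit false

namespace GaDualLib

universe u

variable {p : ℕ} [Fact p.Prime] {R : Type u} [CommRing R] [IsDomain R] [IsDiscreteValuationRing R] [CharP R p]
  {π : R}

theorem dvd_of_pow_dvd_sum (hπ : Irreducible π) {c : Fin p → R} (h : π ^ p ∣ ∑ i : Fin p, π ^ (i : ℕ) * c i ^ p) :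
    ∀ i, π ∣ c i := by
  have hprime : Prime π := hπ.prime
  suffices key : ∀ m, ∀ i : Fin p, (i : ℕ) = m → π ∣ c i from fun i => key i i rfl
  intro m
  induction m using Nat.strong_induction_on with
  | _ m IH =>
  rintro i rfl
  have hrest : π ^ ((i : ℕ) + 1) ∣ ∑ j ∈ Finset.univ.erase i, π ^ (j : ℕ) * c j ^ p := by
    refine Finset.dvd_sum fun j hj => ?_
    rcases lt_or_gt_of_ne (Finset.ne_of_mem_erase hj) with hlt | hgt
    · exact dvd_mul_of_dvd_right ((pow_dvd_pow π (show (i : ℕ) + 1 ≤ p from i.2)).trans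
        (pow_dvd_pow_of_dvd (IH j hlt j rfl) p)) _
    · exact dvd_mul_of_dvd_left (pow_dvd_pow π hgt) _
  have h1 := (pow_dvd_pow π (show (i : ℕ) + 1 ≤ p from i.2)).trans h
  rw [← Finset.add_sum_erase _ _ (Finset.mem_univ i), dvd_add_left hrest, pow_succ] at h1
  exact hprime.dvd_of_dvd_pow ((mul_dvd_mul_iff_left (pow_ne_zero _ hπ.ne_zero)).1 h1)

theorem pow_dvd_of_pow_mul_dvd_sum (hπ : Irreducible π) (m : ℕ) : ∀ {c : Fin p → R},
    π ^ (p * m) ∣ ∑ i : Fin p, π ^ (i : ℕ) * c i ^ p → ∀ i, π ^ m ∣ c i := by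
  induction m with
  | zero => simp
  | succ m IH =>
    intro c h i
    have h1 := dvd_of_pow_dvd_sum hπ ((pow_dvd_pow π (Nat.le_mul_of_pos_right p m.succ_pos)).trans h)
    choose d hd using h1
    have h2 : ∑ i : Fin p, π ^ (i : ℕ) * c i ^ p = π ^ p * ∑ i : Fin p, π ^ (i : ℕ) * d i ^ p := by
      rw [Finset.mul_sum]
      exact Finset.sum_congr rfl fun i _ => by rw [hd i]; ring
    rw [h2, Nat.mul_succ, Nat.add_comm, pow_add, mul_dvd_mul_iff_left (pow_ne_zero _ hπ.ne_zero)] at h
    rw [hd i, pow_succ']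
    exact mul_dvd_mul_left _ (IH h i)

theorem eq_zero_of_sum_eq_zero (hπ : Irreducible π) {c : Fin p → R}
    (h : ∑ i : Fin p, π ^ (i : ℕ) * c i ^ p = 0) (i : Fin p) : c i = 0 := by
  have h1 : ∀ m, π ^ m ∣ c i := fun m => pow_dvd_of_pow_mul_dvd_sum hπ m (h ▸ dvd_zero _) i
  by_contra hne
  obtain ⟨n, u, hu⟩ := IsDiscreteValuationRing.eq_unit_mul_pow_irreducible hne hπ
  have h2 := h1 (n + 1)
  rw [hu, pow_succ, mul_comm (u : R), mul_dvd_mul_iff_left (pow_ne_zero _ hπ.ne_zero)] at h2
  exact hπ.not_isUnit (isUnit_of_dvd_unit h2 u.isUnit)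

theorem exists_sum_eq (kp : Subfield (FractionRing R))
    (hkp : ∀ x : FractionRing R, x ∈ kp ↔ ∃ y : FractionRing R, y ^ p = x)
    (hdeg : Module.finrank kp (FractionRing R) = p) (hπ : Irreducible π) (r : R) :
    ∃! c : Fin p → R, r = ∑ i : Fin p, π ^ (i : ℕ) * c i ^ p := by
  have hp := (Fact.out : p.Prime)
  set K := FractionRing R
  have : CharP K p := charP_of_injective_algebraMap (IsFractionRing.injective R K) p
  have huniq : ∀ c c' : Fin p → R, ∑ i : Fin p, π ^ (i : ℕ) * c i ^ p = ∑ i : Fin p, π ^ (i : ℕ) * c' i ^ p → c = c' := by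
    intro c c' h
    funext i
    refine sub_eq_zero.1 (eq_zero_of_sum_eq_zero (p := p) hπ (c := fun i => c i - c' i) ?_ i)
    simp only [sub_pow_char, mul_sub, Finset.sum_sub_distrib, h, sub_self]
  have hli : LinearIndependent kp (fun i : Fin p => algebraMap R K π ^ (i : ℕ)) := by
    rw [Fintype.linearIndependent_iff]
    intro g hg i
    choose y hy using fun i => (hkp (g i : K)).1 (g i).2
    obtain ⟨⟨b, hb⟩, hbd⟩ := IsLocalization.exist_integer_multiples (nonZeroDivisors R) (Finset.univ : Finset (Fin p)) y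
    choose c hc using fun i => hbd i (Finset.mem_univ i)
    have h0 : ∑ i : Fin p, π ^ (i : ℕ) * c i ^ p = 0 := by
      refine IsFractionRing.injective R K ?_
      rw [map_sum, map_zero, ← mul_zero (algebraMap R K b ^ p), ← hg, Finset.mul_sum]
      refine Finset.sum_congr rfl fun j _ => ?_
      rw [map_mul, map_pow, map_pow, hc j, Algebra.smul_def, mul_pow, hy j, Subfield.smul_def, smul_eq_mul]
      ring
    have h1 := eq_zero_of_sum_eq_zero hπ h0 i
    have h2 := hc i
    rw [h1, map_zero, Algebra.smul_def, eq_comm, mul_eq_zero] at h2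
    rcases h2 with h2 | h2
    · exact absurd (IsFractionRing.to_map_eq_zero_iff.1 h2) (nonZeroDivisors.ne_zero hb)
    · exact Subtype.ext (by rw [← hy i, h2, zero_pow hp.ne_zero]; rfl)
  have : Nonempty (Fin p) := ⟨⟨0, hp.pos⟩⟩
  let B := basisOfLinearIndependentOfCardEqFinrank hli (by rw [Fintype.card_fin, hdeg])
  choose y hy using fun i => (hkp ((B.repr (algebraMap R K r) i : kp) : K)).1 (B.repr (algebraMap R K r) i).2
  obtain ⟨⟨b, hb⟩, hbd⟩ := IsLocalization.exist_integer_multiples (nonZeroDivisors R) (Finset.univ : Finset (Fin p)) y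
  choose c hc using fun i => hbd i (Finset.mem_univ i)
  obtain ⟨m, u, rfl⟩ := IsDiscreteValuationRing.eq_unit_mul_pow_irreducible (nonZeroDivisors.ne_zero hb) hπ
  have hsum : ∑ i : Fin p, π ^ (i : ℕ) * c i ^ p = ((u : R) * π ^ m) ^ p * r := by
    refine IsFractionRing.injective R K ?_
    conv_rhs => rw [map_mul, ← B.sum_repr (algebraMap R K r), Finset.mul_sum]
    rw [map_sum]
    refine Finset.sum_congr rfl fun i _ => ?_
    rw [map_mul, map_pow, map_pow, map_pow, hc i, Algebra.smul_def, mul_pow, hy i, Subfield.smul_def, smul_eq_mul]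
    simp only [B, coe_basisOfLinearIndependentOfCardEqFinrank]
    ring
  have hdvd : ∀ i, (u : R) * π ^ m ∣ c i := fun i => by
    rw [Units.mul_left_dvd]
    refine pow_dvd_of_pow_mul_dvd_sum hπ m ?_ i
    rw [hsum, mul_pow, ← pow_mul, mul_comm m p, mul_comm ((u : R) ^ p), mul_assoc]
    exact dvd_mul_right _ _
  choose d hd using hdvd
  refine ⟨d, ?_, fun c' hc' => (huniq _ _ ?_)⟩
  · refine mul_left_cancel₀ (pow_ne_zero p (nonZeroDivisors.ne_zero hb)) ?_
    rw [← hsum, Finset.mul_sum]
    exact Finset.sum_congr rfl fun i _ => by rw [hd i]; ring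
  · rw [← hc']
    refine mul_left_cancel₀ (pow_ne_zero p (nonZeroDivisors.ne_zero hb)) ?_
    rw [← hsum, Finset.mul_sum]
    exact Finset.sum_congr rfl fun i _ => by rw [hd i]; ring

theorem kaehler_bijective (kp : Subfield (FractionRing R))
    (hkp : ∀ x : FractionRing R, x ∈ kp ↔ ∃ y : FractionRing R, y ^ p = x)
    (hdeg : Module.finrank kp (FractionRing R) = p) (hπ : Irreducible π) :
    Function.Bijective (fun r : R => r • KaehlerDifferential.D ℤ R π) := by
  have hp := (Fact.out : p.Prime)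
  have : CharP (FractionRing R) p := charP_of_injective_algebraMap (IsFractionRing.injective R (FractionRing R)) p
  constructor
  · intro r r' h
    by_contra hne
    have h0 : (r - r') • KaehlerDifferential.D ℤ R π = 0 := by rw [sub_smul, sub_eq_zero]; exact h
    obtain ⟨b, hb⟩ : ∃ b : FractionRing R, b ^ p = algebraMap R (FractionRing R) π := by
      by_contra hnp
      push Not at hnp
      obtain ⟨χ, hfst, hsnd⟩ := CommAlgDim.exists_derivation_one (FractionRing R) p _ hnp
      let d : Derivation ℤ R (FractionRing R) := Derivation.mk'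
        { toFun := fun x => TrivSqZeroExt.snd (χ (algebraMap R _ x))
          map_add' := fun x y => by simp
          map_smul' := fun n x => by simp } fun x y => by
        show TrivSqZeroExt.snd (χ (algebraMap R _ (x * y))) =
          x • TrivSqZeroExt.snd (χ (algebraMap R _ y)) + y • TrivSqZeroExt.snd (χ (algebraMap R _ x))
        rw [map_mul, map_mul, TrivSqZeroExt.snd_mul, hfst, hfst, op_smul_eq_smul, smul_eq_mul, smul_eq_mul,
          Algebra.smul_def, Algebra.smul_def]
      have h1 := congrArg d.liftKaehlerDifferential h0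
      rw [map_smul, map_zero, d.liftKaehlerDifferential_comp_D, show d π = 1 from hsnd, Algebra.smul_def, mul_one] at h1
      exact hne (sub_eq_zero.1 (IsFractionRing.to_map_eq_zero_iff.1 h1))
    obtain ⟨f, hf⟩ := IsIntegrallyClosed.exists_algebraMap_eq_of_isIntegral_pow (K := FractionRing R) hp.pos
      (x := b) (hb ▸ isIntegral_algebraMap)
    have hfπ : f ^ p = π := IsFractionRing.injective R (FractionRing R) (by rw [map_pow, hf, hb])
    obtain ⟨q, rfl⟩ : ∃ q, p = q + 2 := ⟨p - 2, by have := hp.two_le; omega⟩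
    rcases hπ.isUnit_or_isUnit (hfπ.symm.trans (pow_succ' f (q + 1))) with hu | hu
    · exact hπ.not_isUnit (hfπ ▸ hu.pow _)
    · exact hπ.not_isUnit (hfπ ▸ ((isUnit_pow_iff (Nat.succ_ne_zero q)).1 hu).pow _)
  · intro ω
    have : ω ∈ Submodule.span R {KaehlerDifferential.D ℤ R π} := by
      have hmem : ω ∈ Submodule.span R (Set.range (KaehlerDifferential.D ℤ R)) :=
        (KaehlerDifferential.span_range_derivation ℤ R).symm ▸ Submodule.mem_top
      refine (Submodule.span_le.2 ?_) hmem
      rintro _ ⟨x, rfl⟩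
      obtain ⟨c, hc, -⟩ := exists_sum_eq kp hkp hdeg hπ x
      rw [SetLike.mem_coe, hc, map_sum]
      refine Submodule.sum_mem _ fun i _ => ?_
      rw [Derivation.leibniz, Derivation.leibniz_pow, Derivation.leibniz_pow,
          ← Nat.cast_smul_eq_nsmul R p, CharP.cast_eq_zero, zero_smul, smul_zero, zero_add,
          ← Nat.cast_smul_eq_nsmul R, smul_smul, smul_smul]
      exact Submodule.smul_mem _ _ (Submodule.mem_span_singleton_self _)
    obtain ⟨r, hr⟩ := Submodule.mem_span_singleton.1 this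
    exact ⟨r, hr⟩

end GaDualLib
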