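import Mathlib

/-! Symmetric additive 2-cocycles in characteristic `p` (Lazard), and multiplicative cocycle
splitting over rings with surjective Frobenius. -/

set_option autoImplicit false

namespace GaDualLib

open Finset

universe u

variable (p : ℕ) [Fact p.Prime]

/-- coefficients of a truncated exponential -/
def κ (i : ℕ) : ZMod p := if i < p then ((i.factorial : ZMod p))⁻¹ else 0

theorem factorial_ne_zero {i : ℕ} (hi : i < p) : (i.factorial : ZMod p) ≠ 0 := by
  rw [Ne, ZMod.natCast_eq_zero_iff]
  exact fun h => (Nat.lt_irrefl p) (((Fact.out : p.Prime).dvd_factorial.1 h).trans_lt hi)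

theorem choose_mul_kappa {i j : ℕ} (h : i + j < p) :
    ((i + j).choose i : ZMod p) * κ p (i + j) = κ p i * κ p j := by
  have h1 : ((i + j).choose i : ZMod p) * (i.factorial : ZMod p) * (j.factorial : ZMod p) =
      ((i + j).factorial : ZMod p) := by
    rw [← Nat.cast_mul, ← Nat.cast_mul]
    congr 1
    have := Nat.choose_mul_factorial_mul_factorial (Nat.le_add_right i j)
    rwa [Nat.add_sub_cancel_left] at this
  have hi := factorial_ne_zero p (i := i) (by omega)
  have hj := factorial_ne_zero p (i := j) (by omega)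
  have hij := factorial_ne_zero p h
  rw [κ, κ, κ, if_pos h, if_pos (by omega), if_pos (by omega)]
  field_simp
  linear_combination h1

/-- coefficients of `((X+Y)^p - X^p - Y^p)/p` up to sign, in the degree-`p q` in the variables `X^q`. -/
def W (q i : ℕ) : ZMod p := if q ∣ i then κ p (i / q) * κ p (p - i / q) else 0

theorem choose_mul_pp (a b : ℕ) : ((p * a + p * b).choose (p * a) : ZMod p) = ((a + b).choose a : ZMod p) := by
  rw [← Nat.mul_add, ZMod.natCast_eq_natCast_iff]
  refine Choose.choose_modEq_choose_mod_mul_choose_div_nat.trans ?_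
  have hp := (Fact.out : p.Prime).pos
  rw [Nat.mul_mod_right, Nat.mul_mod_right, Nat.choose_self, one_mul,
    Nat.mul_div_cancel_left _ hp, Nat.mul_div_cancel_left _ hp]

theorem choose_pn_eq_zero {n k : ℕ} (hk : ¬ p ∣ k) : ((p * n).choose k : ZMod p) = 0 := by
  rw [← Nat.cast_zero, ZMod.natCast_eq_natCast_iff]
  refine Choose.choose_modEq_choose_mod_mul_choose_div_nat.trans ?_
  rw [Nat.mul_mod_right, Nat.choose_eq_zero_of_lt (Nat.pos_of_ne_zero fun h => hk (Nat.dvd_of_mod_eq_zero h)),
    zero_mul]

variable {M : Type u} [AddCommGroup M] [Module (ZMod p) M]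

/-- Symmetric additive cocycle, on coefficient functions. -/
structure IsLinCoc (c : ℕ → ℕ → M) : Prop where
  symm : ∀ i j, c i j = c j i
  coc : ∀ i j l, (if i = 0 then c j l else 0) + ((j + l).choose j : ZMod p) • c i (j + l) =
    ((i + j).choose i : ZMod p) • c (i + j) l + (if l = 0 then c i j else 0)

variable {p}

theorem IsLinCoc.zero_right {c : ℕ → ℕ → M} (hc : IsLinCoc p c) {n : ℕ} (hn : 0 < n) : c 0 n = 0 := by
  have h := hc.coc 0 0 n
  simp only [if_neg hn.ne', Nat.choose_zero_right, Nat.cast_one, one_smul, zero_add, add_zero] at h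
  exact add_eq_left.1 h

theorem IsLinCoc.smul_eq {c : ℕ → ℕ → M} (hc : IsLinCoc p c) {k l : ℕ} (hk : 0 < k) (hl : 0 < l) :
    (k : ZMod p) • c k l = ((k - 1 + l).choose (k - 1) : ZMod p) • c 1 (k - 1 + l) := by
  have h := hc.coc 1 (k - 1) l
  rw [if_neg one_ne_zero, if_neg hl.ne', add_zero, zero_add, Nat.add_sub_of_le hk, Nat.choose_one_right] at h
  exact h.symm

theorem IsLinCoc.div_p {c : ℕ → ℕ → M} (hc : IsLinCoc p c) : IsLinCoc p fun a b => c (p * a) (p * b) where
  symm i j := hc.symm _ _
  coc i j l := by
    have h := hc.coc (p * i) (p * j) (p * l)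
    have hp := (Fact.out : p.Prime).ne_zero
    rw [choose_mul_pp, choose_mul_pp, ← Nat.mul_add, ← Nat.mul_add] at h
    simpa [hp] using h

theorem lazard (n : ℕ) : 0 < n → ∀ {c : ℕ → ℕ → M}, IsLinCoc p c →
    (∃ g : M, ∀ i j, i + j = n → c i j = if 0 < i ∧ 0 < j then (n.choose i : ZMod p) • g else 0) ∨
    (∃ (k : ℕ) (m : M), n = p ^ (k + 1) ∧
      ∀ i j, i + j = n → c i j = if 0 < i ∧ 0 < j then W p (p ^ k) i • m else 0) := by
  induction n using Nat.strong_induction_on with
  | _ n IH =>
  intro hn c hc
  have hp := (Fact.out : p.Prime)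
  have hend : ∀ i j, i + j = n → ¬ (0 < i ∧ 0 < j) → c i j = 0 := fun i j hij h => by
    rcases Nat.eq_zero_or_pos i with rfl | hi
    · exact hc.zero_right (by omega)
    · obtain rfl : j = 0 := by omega
      rw [hc.symm]; exact hc.zero_right hi
  by_cases hpn : p ∣ n
  · obtain ⟨n', rfl⟩ := hpn
    have hn' : 0 < n' := Nat.pos_of_mul_pos_left hn
    rcases eq_or_lt_of_le (show 1 ≤ n' from hn') with h1 | h1
    · -- degree exactly `p`
      obtain rfl : n' = 1 := h1.symm
      rw [mul_one] at *
      refine Or.inr ⟨0, -c 1 (p - 1), by simp, fun i j hij => ?_⟩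
      split_ifs with h
      · obtain ⟨hi, hj⟩ := h
        have h2 := hc.smul_eq hi hj
        rw [show i - 1 + j = p - 1 by omega] at h2
        have hi0 : (i : ZMod p) ≠ 0 := by
          rw [Ne, ZMod.natCast_eq_zero_iff]; exact Nat.not_dvd_of_pos_of_lt hi (by omega)
        rw [smul_neg, ← neg_smul]
        refine smul_right_injective M hi0 ?_
        dsimp only
        rw [h2, smul_smul]
        congr 1
        have hW : ((p - 1).factorial : ZMod p) = -1 := ZMod.wilsons_lemma p
        have hch := Nat.choose_mul_factorial_mul_factorial (show i - 1 ≤ p - 1 by omega)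
        apply_fun (fun t : ℕ => (t : ZMod p)) at hch
        rw [Nat.cast_mul, Nat.cast_mul, hW, show p - 1 - (i - 1) = j by omega] at hch
        have hfi : (i.factorial : ZMod p) = (i : ZMod p) * ((i - 1).factorial : ZMod p) := by
          rw [← Nat.cast_mul, Nat.mul_factorial_pred (by omega)]
        rw [W, pow_zero, if_pos (one_dvd i), Nat.div_one, show p - i = j by omega, κ, κ,
          if_pos (by omega), if_pos (by omega), hfi]
        have hf1 := factorial_ne_zero p (i := i - 1) (by omega)
        have hf2 := factorial_ne_zero p (i := j) (by omega)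
        field_simp
        linear_combination hch
      · exact hend i j hij h
    · -- degree `p n'`, `1 < n'`
      have hc1 : c 1 (p * n' - 1) = 0 := by
        have hlt : p < p * n' := lt_mul_of_one_lt_right hp.pos h1
        have h2 := hc.smul_eq hp.pos (show 0 < p * n' - p by omega)
        rw [ZMod.natCast_self, zero_smul, show p - 1 + (p * n' - p) = p * n' - 1 by have := hp.pos; omega] at h2
        have h3 : ((p * n' - 1).choose (p - 1) : ZMod p) = 1 := by
          refine ((ZMod.natCast_eq_natCast_iff _ 1 p).2 ?_).trans Nat.cast_one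
          refine Choose.choose_modEq_choose_mod_mul_choose_div_nat.trans ?_
          have hmod : (p * n' - 1) % p = p - 1 := by
            obtain ⟨m, rfl⟩ : ∃ m, n' = m + 1 := ⟨n' - 1, by omega⟩
            rw [Nat.mul_succ, Nat.add_sub_assoc hp.one_le, Nat.mul_add_mod, Nat.mod_eq_of_lt]
            have := hp.pos
            omega
          rw [hmod, Nat.mod_eq_of_lt (show p - 1 < p by have := hp.pos; omega), Nat.choose_self,
            Nat.div_eq_of_lt (show p - 1 < p by have := hp.pos; omega), Nat.choose_zero_right]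
        rw [h3, one_smul] at h2
        exact h2.symm
      have hzero : ∀ i j, i + j = p * n' → ¬ p ∣ i → c i j = 0 := fun i j hij hi => by
        have hi0 : 0 < i := Nat.pos_of_ne_zero fun h => hi (h ▸ dvd_zero p)
        rcases Nat.eq_zero_or_pos j with rfl | hj
        · exact hend i 0 hij (by omega)
        have h2 := hc.smul_eq hi0 hj
        rw [show i - 1 + j = p * n' - 1 by omega, hc1, smul_zero] at h2
        exact (smul_eq_zero_iff_right (by rwa [Ne, ZMod.natCast_eq_zero_iff])).1 h2
      have hlt' : n' < p * n' := lt_mul_of_one_lt_left hn' hp.one_lt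
      rcases IH n' hlt' hn' hc.div_p with ⟨g, hg⟩ | ⟨k, m, rfl, hm⟩
      · refine Or.inl ⟨g, fun i j hij => ?_⟩
        split_ifs with h
        · by_cases hi : p ∣ i
          · obtain ⟨a, rfl⟩ := hi
            obtain ⟨b, rfl⟩ : p ∣ j := (Nat.dvd_add_right (dvd_mul_right p a)).1 (hij ▸ dvd_mul_right p n')
            have hab : a + b = n' := Nat.eq_of_mul_eq_mul_left hp.pos (by rw [mul_add, hij])
            have h2 := hg a b hab
            rw [if_pos ⟨Nat.pos_of_mul_pos_left h.1, Nat.pos_of_mul_pos_left h.2⟩] at h2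
            rw [h2, ← hab, mul_add, choose_mul_pp]
          · rw [hzero i j hij hi, choose_pn_eq_zero p hi, zero_smul]
        · exact hend i j hij h
      · refine Or.inr ⟨k + 1, m, by rw [← pow_succ'], fun i j hij => ?_⟩
        split_ifs with h
        · by_cases hi : p ∣ i
          · obtain ⟨a, rfl⟩ := hi
            obtain ⟨b, rfl⟩ : p ∣ j :=
              (Nat.dvd_add_right (dvd_mul_right p a)).1 (hij ▸ dvd_mul_right p (p ^ (k + 1)))
            have hab : a + b = p ^ (k + 1) := Nat.eq_of_mul_eq_mul_left hp.pos (by rw [mul_add, hij])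
            have h2 := hm a b hab
            rw [if_pos ⟨Nat.pos_of_mul_pos_left h.1, Nat.pos_of_mul_pos_left h.2⟩] at h2
            rw [h2]
            simp only [W, pow_succ', Nat.mul_dvd_mul_iff_left hp.pos, Nat.mul_div_mul_left _ _ hp.pos]
          · rw [hzero i j hij hi, W, if_neg fun hd => hi ((dvd_pow_self p (Nat.succ_ne_zero k)).trans hd), zero_smul]
        · exact hend i j hij h
  · have hn0 : (n : ZMod p) ≠ 0 := by rwa [Ne, ZMod.natCast_eq_zero_iff]
    refine Or.inl ⟨(n : ZMod p)⁻¹ • c 1 (n - 1), fun i j hij => ?_⟩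
    split_ifs with h
    · have key : ∀ i j, i + j = n → 0 < i → 0 < j → ¬ p ∣ i →
          c i j = (n.choose i : ZMod p) • (n : ZMod p)⁻¹ • c 1 (n - 1) := fun i j hij hi hj hpi => by
        have h2 := hc.smul_eq hi hj
        rw [show i - 1 + j = n - 1 by omega] at h2
        have hi0 : (i : ZMod p) ≠ 0 := by rwa [Ne, ZMod.natCast_eq_zero_iff]
        refine smul_right_injective M hi0 ?_
        dsimp only
        rw [h2, smul_smul, smul_smul]
        congr 1
        have h3 : (n : ZMod p) * ((n - 1).choose (i - 1) : ZMod p) = (n.choose i : ZMod p) * (i : ZMod p) := by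
          rw [← Nat.cast_mul, ← Nat.cast_mul]
          congr 1
          have h4 := Nat.add_one_mul_choose_eq (n - 1) (i - 1)
          rwa [Nat.sub_add_cancel (show 1 ≤ n by omega), Nat.sub_add_cancel (show 1 ≤ i by omega)] at h4
        field_simp
        linear_combination h3
      by_cases hpi : p ∣ i
      · rw [hc.symm, key j i (by omega) h.2 h.1 fun hd => hpn (hij ▸ dvd_add hpi hd),
          Nat.choose_symm_of_eq_add hij.symm]
      · exact key i j hij h.1 h.2 hpi
    · exact hend i j hij h

end GaDualLib
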