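import Groth.Agent.GaDualLib.Split

/-! Symmetric multiplicative polynomial 2-cocycles over rings with surjective Frobenius split. -/

set_option autoImplicit false

namespace GaDualLib

open MvPolynomial

universe u

theorem exists_splitting (p : ℕ) [Fact p.Prime] {R : Type u} [CommRing R] [CharP R p]
    (hF : Function.Surjective (frobenius R p)) (h : MvPolynomial (Fin 2) R) (hu : IsUnit h)
    (h0 : aeval ![(X 0 : MvPolynomial (Fin 2) R), 0] h = 1)
    (hsymm : swp h = h) (hcoc : p23 h * q1 h = q2 h * p12 h) :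
    ∃ f : Polynomial R, IsUnit f ∧
      Polynomial.aeval (X 0 + X 1 : MvPolynomial (Fin 2) R) f =
        Polynomial.aeval (X 0 : MvPolynomial (Fin 2) R) f * Polynomial.aeval (X 1 : MvPolynomial (Fin 2) R) f * h := by
  classical
  letI : Algebra (ZMod p) R := ZMod.algebra R p
  have hnil : ∀ d, IsNilpotent (coeff d (h - 1)) := fun d => by
    obtain ⟨-, h2⟩ := MvPolynomial.isUnit_iff.1 hu
    rcases eq_or_ne d 0 with rfl | hd
    · have h1 := congrArg constantCoeff h0
      have h1' : ∀ g : MvPolynomial (Fin 2) R,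
          constantCoeff (aeval ![(X 0 : MvPolynomial (Fin 2) R), 0] g) = constantCoeff g := fun g => by
        induction g using MvPolynomial.induction_on with
        | C a => simp
        | add a b ha hb => rw [map_add, map_add, map_add, ha, hb]
        | mul_X a k ha => fin_cases k <;> simp
      rw [h1', constantCoeff_eq] at h1
      simp [coeff_sub, h1]
    · rw [coeff_sub, MvPolynomial.coeff_one, if_neg hd.symm, sub_zero]
      exact h2 d hd
  let J : Ideal R := Ideal.span ↑((h - 1).support.image fun d => coeff d (h - 1))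
  obtain ⟨m, hm⟩ : IsNilpotent J := by
    refine (Ideal.FG.isNilpotent_iff_le_nilradical ⟨_, rfl⟩).2 (Ideal.span_le.2 fun x hx => ?_)
    obtain ⟨d, -, rfl⟩ := Finset.mem_image.1 (Finset.mem_coe.1 hx)
    exact hnil d
  have hJm : J ^ (2 ^ m) = ⊥ := le_bot_iff.1 (le_of_le_of_eq
    (Ideal.pow_le_pow_right (Nat.lt_two_pow_self).le) hm)
  have hs : Small J (h - 1) := fun d => by
    by_cases hd : d ∈ (h - 1).support
    · exact Ideal.subset_span (Finset.mem_coe.2 (Finset.mem_image_of_mem _ hd))
    · rw [notMem_support_iff.1 hd]; exact zero_mem _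
  obtain ⟨f, hf⟩ := exists_Δ_eq (p := p) (fun r => hF r) m J hJm hu.unit ⟨hsymm, hcoc⟩ hs
  refine ⟨(f⁻¹ : (Polynomial R)ˣ), (f⁻¹).isUnit, ?_⟩
  have h1 := Δ_mul_add f
  rw [hf, IsUnit.unit_spec] at h1
  refine (f.isUnit.map (Polynomial.aeval (X 0 + X 1 : MvPolynomial (Fin 2) R))).mul_left_cancel ?_
  rw [← map_mul, Units.mul_inv, map_one]
  calc (1 : MvPolynomial (Fin 2) R)
      = Polynomial.aeval (X 0) (↑f * ↑f⁻¹ : Polynomial R) * Polynomial.aeval (X 1) (↑f * ↑f⁻¹ : Polynomial R) := by
        rw [Units.mul_inv, map_one, map_one, mul_one]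
    _ = (Polynomial.aeval (X 0) (f : Polynomial R) * Polynomial.aeval (X 1) (f : Polynomial R)) *
          (Polynomial.aeval (X 0) (↑f⁻¹ : Polynomial R) * Polynomial.aeval (X 1) (↑f⁻¹ : Polynomial R)) := by
        rw [map_mul, map_mul]; ring
    _ = _ := by rw [← h1]; ring

end GaDualLib
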