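import Groth.Agent.GaDualLib.Cocycle

/-! Splitting multiplicative symmetric polynomial 2-cocycles over rings with surjective Frobenius. -/

set_option autoImplicit false

namespace GaDualLib

open MvPolynomial

universe u

variable {p : ℕ} [Fact p.Prime] {S : Type u} [CommRing S] [Algebra (ZMod p) S]

theorem hasFiniteDeg (P : MvPolynomial (Fin 2) S) {i j : ℕ} (h : coeff (e2 i j) P ≠ 0) :
    i + j ≤ P.totalDegree := by
  refine le_trans (le_of_eq ?_) (le_totalDegree (mem_support_iff.2 h))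
  rw [Finsupp.sum_fintype _ _ (fun _ => rfl)]
  simp [e2, Fin.sum_univ_two]

/-- degree `n` component -/
noncomputable def comp (P : MvPolynomial (Fin 2) S) (n : ℕ) : MvPolynomial (Fin 2) S :=
  ∑ i ∈ Finset.range (n + 1), monomial (e2 i (n - i)) (coeff (e2 i (n - i)) P)

theorem coeff_comp (P : MvPolynomial (Fin 2) S) (n i j : ℕ) :
    coeff (e2 i j) (comp P n) = if i + j = n then coeff (e2 i j) P else 0 := by
  simp only [comp, coeff_sum, coeff_monomial, e2_inj]
  split_ifs with h
  · rw [Finset.sum_eq_single i]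
    · rw [if_pos ⟨rfl, by omega⟩, show n - i = j by omega]
    · intro m _ hm; rw [if_neg (fun hh => hm hh.1)]
    · intro hi; exact absurd (Finset.mem_range.2 (by omega)) hi
  · refine Finset.sum_eq_zero fun m hm => if_neg fun hh => h ?_
    have := Finset.mem_range.1 hm
    omega

theorem sum_comp (P : MvPolynomial (Fin 2) S) : ∑ n ∈ Finset.range (P.totalDegree + 1), comp P n = P := by
  ext d
  obtain ⟨i, j, rfl⟩ : ∃ i j, d = e2 i j := ⟨_, _, e2_eta d⟩
  simp only [coeff_sum, coeff_comp]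
  rw [Finset.sum_ite_eq]
  split_ifs with h
  · rfl
  · by_contra hne
    exact h (Finset.mem_range.2 (Nat.lt_succ_of_le (hasFiniteDeg P fun h0 => hne h0.symm)))

theorem ext_e2 {P Q : MvPolynomial (Fin 2) S} (h : ∀ i j, coeff (e2 i j) P = coeff (e2 i j) Q) : P = Q := by
  ext d
  rw [e2_eta d]
  exact h _ _

/-- truncated exponential over `ZMod p` -/
noncomputable def E0 (p : ℕ) [Fact p.Prime] : Polynomial (ZMod p) :=
  ∑ i ∈ Finset.range p, Polynomial.monomial i (κ p i)

theorem E0_coeff (i : ℕ) : (E0 p).coeff i = κ p i := by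
  rw [E0, Polynomial.finsetSum_coeff]
  simp only [Polynomial.coeff_monomial, Finset.sum_ite_eq', Finset.mem_range]
  split_ifs with h
  · rfl
  · rw [κ, if_neg h]

theorem aeval_E0_eq {A : Type u} [CommRing A] [Algebra (ZMod p) A] (x : A) :
    Polynomial.aeval x (E0 p) = ∑ i ∈ Finset.range p, algebraMap (ZMod p) A (κ p i) * x ^ i := by
  simp [E0, Polynomial.aeval_monomial]

theorem coeff_aeval_X_zero (g : Polynomial (ZMod p)) (i j : ℕ) :
    coeff (e2 i j) (Polynomial.aeval (X 0 : MvPolynomial (Fin 2) (ZMod p)) g) = if j = 0 then g.coeff i else 0 := by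
  induction g using Polynomial.induction_on' with
  | add a b ha hb => rw [map_add, coeff_add, ha, hb, Polynomial.coeff_add]; split_ifs <;> simp
  | monomial n r =>
    rw [Polynomial.aeval_monomial, algebraMap_eq, show C r * (X 0 : MvPolynomial (Fin 2) (ZMod p)) ^ n = monomial (e2 n 0) r by
      rw [monomial_e2]; simp, coeff_monomial, Polynomial.coeff_monomial]
    simp only [e2_inj]
    split_ifs <;> first | rfl | (exfalso; omega)

theorem coeff_aeval_X_one (g : Polynomial (ZMod p)) (i j : ℕ) :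
    coeff (e2 i j) (Polynomial.aeval (X 1 : MvPolynomial (Fin 2) (ZMod p)) g) = if i = 0 then g.coeff j else 0 := by
  induction g using Polynomial.induction_on' with
  | add a b ha hb => rw [map_add, coeff_add, ha, hb, Polynomial.coeff_add]; split_ifs <;> simp
  | monomial n r =>
    rw [Polynomial.aeval_monomial, algebraMap_eq, show C r * (X 1 : MvPolynomial (Fin 2) (ZMod p)) ^ n = monomial (e2 0 n) r by
      rw [monomial_e2]; simp, coeff_monomial, Polynomial.coeff_monomial]
    simp only [e2_inj]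
    split_ifs <;> first | rfl | (exfalso; omega)

theorem coeff_aeval_add (g : Polynomial (ZMod p)) (i j : ℕ) :
    coeff (e2 i j) (Polynomial.aeval (X 0 + X 1 : MvPolynomial (Fin 2) (ZMod p)) g) =
      ((i + j).choose i : ZMod p) * g.coeff (i + j) := by
  induction g using Polynomial.induction_on' with
  | add a b ha hb => rw [map_add, coeff_add, ha, hb, Polynomial.coeff_add, mul_add]
  | monomial n r =>
    have hsum : C r * (X 0 + X 1 : MvPolynomial (Fin 2) (ZMod p)) ^ n =
        ∑ m ∈ Finset.range (n + 1), monomial (e2 m (n - m)) (r * (n.choose m : ZMod p)) := by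
      simp only [add_pow, Finset.mul_sum, monomial_e2, map_mul, map_natCast]
      exact Finset.sum_congr rfl fun m _ => by ring
    rw [Polynomial.aeval_monomial, algebraMap_eq, hsum, coeff_sum, Polynomial.coeff_monomial]
    simp only [coeff_monomial, e2_inj]
    by_cases h : n = i + j
    · subst h
      rw [Finset.sum_eq_single i]
      · simp [mul_comm]
      · intro m hm hmj; rw [if_neg (fun hh => hmj hh.1)]
      · intro hj; exact absurd (Finset.mem_range.2 (by omega)) hj
    · rw [if_neg h, mul_zero]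
      refine Finset.sum_eq_zero fun m hm => if_neg fun hh => h ?_
      have := Finset.mem_range.1 hm
      omega

/-- the defect of the truncated exponential -/
noncomputable def D0 (p : ℕ) [Fact p.Prime] : MvPolynomial (Fin 2) (ZMod p) :=
  Polynomial.aeval (X 0) (E0 p) * Polynomial.aeval (X 1) (E0 p) - Polynomial.aeval (X 0 + X 1) (E0 p)

theorem coeff_mul_X01 (g g' : Polynomial (ZMod p)) (i j : ℕ) :
    coeff (e2 i j) (Polynomial.aeval (X 0 : MvPolynomial (Fin 2) (ZMod p)) g * Polynomial.aeval (X 1) g') =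
      g.coeff i * g'.coeff j := by
  rw [coeff_mul, Finset.sum_eq_single (e2 i 0, e2 0 j)]
  · rw [coeff_aeval_X_zero, coeff_aeval_X_one, if_pos rfl, if_pos rfl]
  · rintro ⟨d, d'⟩ hd hne
    obtain ⟨a, b, rfl⟩ : ∃ a b, d = e2 a b := ⟨_, _, e2_eta d⟩
    obtain ⟨a', b', rfl⟩ : ∃ a b, d' = e2 a b := ⟨_, _, e2_eta d'⟩
    rw [coeff_aeval_X_zero, coeff_aeval_X_one]
    split_ifs with h1 h2 <;> first | rw [mul_zero] | rw [zero_mul] | skip
    refine absurd ?_ hne
    rw [Finset.HasAntidiagonal.mem_antidiagonal] at hd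
    have h0 := DFunLike.congr_fun hd 0
    have h1' := DFunLike.congr_fun hd 1
    simp [e2] at h0 h1'
    simp only [Prod.mk.injEq, e2_inj]
    omega
  · intro h
    refine absurd ?_ h
    rw [Finset.HasAntidiagonal.mem_antidiagonal]
    simp [e2]

theorem coeff_D0 (i j : ℕ) (h : i + j ≤ p) :
    coeff (e2 i j) (D0 p) = if i + j = p then κ p i * κ p j else 0 := by
  rw [D0, coeff_sub, coeff_mul_X01, coeff_aeval_add, E0_coeff, E0_coeff, E0_coeff]
  split_ifs with h'
  · rw [κ.eq_def p (i + j), if_neg (by omega), mul_zero, sub_zero]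
  · rw [choose_mul_kappa p (show i + j < p by omega), sub_self]

variable (S) in
/-- `X ↦ a X ^ q` -/
noncomputable def θ (a : S) (q : ℕ) : MvPolynomial (Fin 2) (ZMod p) →ₐ[ZMod p] MvPolynomial (Fin 2) S :=
  aeval ![C a * X 0 ^ q, C a * X 1 ^ q]

theorem coeff_θ (a : S) {q : ℕ} (hq : 0 < q) (P : MvPolynomial (Fin 2) (ZMod p)) (i j : ℕ) :
    coeff (e2 i j) (θ S a q P) = if q ∣ i ∧ q ∣ j then
      algebraMap (ZMod p) S (coeff (e2 (i / q) (j / q)) P) * a ^ (i / q + j / q) else 0 := by
  induction P using MvPolynomial.induction_on' with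
  | monomial d r =>
    obtain ⟨x, y, rfl⟩ : ∃ x y, d = e2 x y := ⟨_, _, e2_eta d⟩
    rw [show θ S a q (monomial (e2 x y) r) = monomial (e2 (q * x) (q * y)) (algebraMap (ZMod p) S r * a ^ (x + y)) by
      rw [monomial_e2, monomial_e2]
      simp only [θ, map_mul, map_pow, aeval_C, aeval_X, Matrix.cons_val_zero, Matrix.cons_val_one, mul_pow,
        ← pow_mul, MvPolynomial.algebraMap_apply, pow_add]
      ring]
    simp only [coeff_monomial, e2_inj]
    by_cases h : q * x = i ∧ q * y = j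
    · obtain ⟨rfl, rfl⟩ := h
      simp [Nat.mul_div_cancel_left _ hq]
    · rw [if_neg h]
      split_ifs with hd hxy
      · exact absurd ⟨by rw [hxy.1, Nat.mul_div_cancel' hd.1], by rw [hxy.2, Nat.mul_div_cancel' hd.2]⟩ h
      · simp
      · rfl
  | add P Q hP hQ => rw [map_add, coeff_add, coeff_add, hP, hQ]; split_ifs <;> simp [add_mul]

/-- coefficients in an ideal -/
def Small (M : Ideal S) (N : MvPolynomial (Fin 2) S) : Prop := ∀ d, coeff d N ∈ M

theorem small_iff {M : Ideal S} {N : MvPolynomial (Fin 2) S} : Small M N ↔ N ∈ M.map (C : S →+* _) :=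
  mem_map_C_iff.symm

theorem mul_eq_zero_of_small {σ : Type} {M : Ideal S} (hM : M * M = ⊥) {P Q : MvPolynomial σ S}
    (hP : P ∈ M.map (C : S →+* _)) (hQ : Q ∈ M.map (C : S →+* _)) : P * Q = 0 := by
  have := Ideal.mul_mem_mul hP hQ
  rwa [← Ideal.map_mul, hM, Ideal.map_bot, Ideal.mem_bot] at this

theorem aeval_small {σ : Type} {M : Ideal S} {N : MvPolynomial (Fin 2) S} (g : Fin 2 → MvPolynomial σ S)
    (hN : N ∈ M.map (C : S →+* _)) : aeval g N ∈ M.map (C : S →+* _) := by
  have h := Ideal.mem_map_of_mem (aeval g : MvPolynomial (Fin 2) S →ₐ[S] MvPolynomial σ S).toRingHom hN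
  rw [Ideal.map_map] at h
  rwa [show (aeval g : MvPolynomial (Fin 2) S →ₐ[S] MvPolynomial σ S).toRingHom.comp (C : S →+* _) = C from
    RingHom.ext fun x => by simp] at h

theorem isLinCoc_of_isCoc {M : Ideal S} (hM : M * M = ⊥) {N : MvPolynomial (Fin 2) S}
    (hN : Small M N) (h : IsCoc (1 + N)) : IsLinCoc p fun i j => coeff (e2 i j) N where
  symm i j := by
    have h1 := h.1
    rw [map_add, map_one, add_right_inj] at h1
    conv_lhs => rw [← h1]
    rw [coeff_swp]
  coc i j l := by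
    have h1 := h.2
    have hz : ∀ g g' : Fin 2 → MvPolynomial (Fin 3) S, aeval g N * aeval g' N = 0 := fun g g' =>
      mul_eq_zero_of_small hM (aeval_small g (small_iff.1 hN)) (aeval_small g' (small_iff.1 hN))
    simp only [map_add, map_one] at h1
    have hz1 : p23 N * q1 N = 0 := hz _ _
    have hz2 : q2 N * p12 N = 0 := hz _ _
    have h2 : p23 N + q1 N = q2 N + p12 N := by linear_combination h1 - hz1 + hz2
    have h3 := congrArg (coeff (e3 i j l)) h2
    rw [coeff_add, coeff_add, coeff_p23, coeff_q1, coeff_q2, coeff_p12] at h3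
    simp only [Algebra.smul_def, map_natCast]
    exact h3

variable (M : Ideal S)

/-- linearised coboundaries -/
def G : Set (MvPolynomial (Fin 2) S) :=
  {N | Small M N ∧ ∃ f : (Polynomial S)ˣ, (Δ S f : MvPolynomial (Fin 2) S) = 1 + N}

variable {M}

theorem G_zero : (0 : MvPolynomial (Fin 2) S) ∈ G M := ⟨fun d => by simp, 1, by simp⟩

theorem G_add (hM : M * M = ⊥) {N N' : MvPolynomial (Fin 2) S} (h : N ∈ G M) (h' : N' ∈ G M) : N + N' ∈ G M := by
  obtain ⟨hN, f, hf⟩ := h
  obtain ⟨hN', f', hf'⟩ := h'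
  refine ⟨fun d => by rw [coeff_add]; exact add_mem (hN d) (hN' d), f * f', ?_⟩
  rw [map_mul, Units.val_mul, hf, hf']
  linear_combination mul_eq_zero_of_small hM (small_iff.1 hN) (small_iff.1 hN')

theorem G_neg (hM : M * M = ⊥) {N : MvPolynomial (Fin 2) S} (h : N ∈ G M) : -N ∈ G M := by
  obtain ⟨hN, f, hf⟩ := h
  refine ⟨fun d => by rw [coeff_neg]; exact neg_mem (hN d), f⁻¹, ?_⟩
  rw [map_inv]
  refine Units.inv_eq_of_mul_eq_one_right ?_
  rw [hf]
  linear_combination -mul_eq_zero_of_small hM (small_iff.1 hN) (small_iff.1 hN)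

theorem G_sum (hM : M * M = ⊥) {ι : Type} (s : Finset ι) (F : ι → MvPolynomial (Fin 2) S)
    (h : ∀ i ∈ s, F i ∈ G M) : ∑ i ∈ s, F i ∈ G M :=
  Finset.sum_induction F (· ∈ G M) (fun _ _ => G_add hM) G_zero h

theorem G_binom (hM : M * M = ⊥) {g : S} (hg : g ∈ M) (n : ℕ) :
    C g * ((X 0 + X 1) ^ n - X 0 ^ n - X 1 ^ n) ∈ G M := by
  have hgg : C (σ := Fin 2) g * C g = 0 := by
    rw [← map_mul, show g * g = 0 from Ideal.mem_bot.1 (hM ▸ Ideal.mul_mem_mul hg hg), map_zero]
  have hnil : IsNilpotent (-(Polynomial.C g * Polynomial.X ^ n) : Polynomial S) := by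
    refine IsNilpotent.neg ⟨2, ?_⟩
    rw [mul_pow, ← map_pow, pow_two, show g * g = 0 from Ideal.mem_bot.1 (hM ▸ Ideal.mul_mem_mul hg hg)]
    simp
  refine ⟨small_iff.2 (Ideal.mul_mem_right _ _ (Ideal.mem_map_of_mem _ hg)), hnil.isUnit_one_add.unit, ?_⟩
  refine (hnil.isUnit_one_add.map (Polynomial.aeval (X 0 + X 1 : MvPolynomial (Fin 2) S))).mul_right_cancel ?_
  have h := Δ_mul_add hnil.isUnit_one_add.unit
  rw [IsUnit.unit_spec] at h
  rw [h]
  simp only [map_add, map_one, map_neg, map_mul, map_pow, Polynomial.aeval_C, Polynomial.aeval_X, algebraMap_eq]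
  linear_combination ((X 0 : MvPolynomial (Fin 2) S) ^ n * X 1 ^ n +
    ((X 0 + X 1) ^ n - X 0 ^ n - X 1 ^ n) * (X 0 + X 1) ^ n) * hgg

theorem comp_mem_G (hM : M * M = ⊥) {N : MvPolynomial (Fin 2) S} (hN : Small M N) {n : ℕ}
    (hn : 0 < n) (g : S) (hg : g ∈ M)
    (h : ∀ i j, i + j = n → coeff (e2 i j) N = if 0 < i ∧ 0 < j then (n.choose i : S) * g else 0) :
    comp N n ∈ G M := by
  convert G_binom hM hg n
  refine ext_e2 fun i j => ?_
  have hx0 : (X 0 : MvPolynomial (Fin 2) S) ^ n = monomial (e2 n 0) 1 := by rw [monomial_e2]; simp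
  have hx1 : (X 1 : MvPolynomial (Fin 2) S) ^ n = monomial (e2 0 n) 1 := by rw [monomial_e2]; simp
  have hsum : (X 0 + X 1 : MvPolynomial (Fin 2) S) ^ n =
      ∑ m ∈ Finset.range (n + 1), monomial (e2 m (n - m)) (n.choose m : S) := by
    simp only [add_pow, monomial_e2, map_natCast]
    exact Finset.sum_congr rfl fun m _ => by ring
  rw [coeff_comp, coeff_C_mul, coeff_sub, coeff_sub, hsum, hx0, hx1, coeff_sum]
  simp only [coeff_monomial, e2_inj]
  by_cases hij : i + j = n
  · rw [if_pos hij, h i j hij, Finset.sum_eq_single i]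
    · rcases Nat.eq_zero_or_pos i with rfl | hi
      · simp [show j = n by omega, hn.ne']
      · rcases Nat.eq_zero_or_pos j with rfl | hj
        · simp [show i = n by omega, hn.ne']
        · rw [if_pos ⟨hi, hj⟩, if_pos ⟨rfl, by omega⟩, if_neg (by omega), if_neg (by omega)]
          ring
    · intro m _ hm; rw [if_neg (fun hh => hm hh.1)]
    · intro hi; exact absurd (Finset.mem_range.2 (by omega)) hi
  · rw [if_neg hij, Finset.sum_eq_zero (fun m hm => if_neg fun hh => hij (by
      have := Finset.mem_range.1 hm; omega)), if_neg (by omega), if_neg (by omega)]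
    ring

/-- the truncated exponential gives a linear cocycle with known components -/
theorem exists_exp_coboundary (hM : M * M = ⊥) {a : S} (ha : a ^ p ∈ M) (k : ℕ) :
    ∃ K, K ∈ G M ∧
      (∀ i j, i + j = p ^ (k + 1) → coeff (e2 i j) K = algebraMap (ZMod p) S (W p (p ^ k) i) * a ^ p) ∧
      ∀ i j, coeff (e2 i j) K ≠ 0 → i + j ≠ p ^ (k + 1) → 0 < i + j ∧ ∀ e, i + j ≠ p ^ e := by
  classical
  have hp := (Fact.out : p.Prime)
  have hq : 0 < p ^ k := pow_pos hp.pos k
  set q := p ^ k with hqdef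
  have ha2 : a ^ (2 * p) = 0 := by
    rw [two_mul, pow_add]; exact Ideal.mem_bot.1 (hM ▸ Ideal.mul_mem_mul ha ha)
  have hnilC : ∀ {σ : Type} (x : MvPolynomial σ S), C a ∣ x → x ^ (2 * p) = 0 := fun {σ} x ⟨y, hy⟩ => by
    rw [hy, mul_pow, ← map_pow, ha2, map_zero, zero_mul]
  -- the unit
  set z : Polynomial S := Polynomial.C a * Polynomial.X ^ q with hz
  set E : Polynomial S := Polynomial.aeval z (E0 p) with hE
  obtain ⟨r, hr⟩ : Polynomial.X ∣ E0 p - 1 := by
    rw [Polynomial.X_dvd_iff, Polynomial.coeff_sub, E0_coeff, Polynomial.coeff_one_zero, κ, if_pos hp.pos]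
    simp
  have hEu : IsUnit E := by
    have h1 : E = 1 + z * Polynomial.aeval z r := by
      rw [hE, show E0 p = 1 + Polynomial.X * r by rw [← hr]; ring]; simp
    rw [h1]
    refine IsNilpotent.isUnit_one_add ⟨2 * p, ?_⟩
    rw [mul_pow, hz, mul_pow, ← map_pow, ha2]; simp
  let θ' := θ (p := p) S a q
  have hθ : ∀ v : MvPolynomial (Fin 2) S, ∀ w : MvPolynomial (Fin 2) (ZMod p),
      Polynomial.aeval v z = θ' w → Polynomial.aeval v E = θ' (Polynomial.aeval w (E0 p)) := fun v w hvw => by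
    rw [hE, ← Polynomial.aeval_algHom_apply θ' w, ← hvw]
    exact (Polynomial.aeval_algHom_apply ((Polynomial.aeval v : Polynomial S →ₐ[S] _).restrictScalars (ZMod p)) z (E0 p)).symm
  have hzx : Polynomial.aeval (X 0 : MvPolynomial (Fin 2) S) z = θ' (X 0) := by simp [hz, θ', θ]
  have hzy : Polynomial.aeval (X 1 : MvPolynomial (Fin 2) S) z = θ' (X 1) := by simp [hz, θ', θ]
  have hchar : ∀ x y : MvPolynomial (Fin 2) S, (x + y) ^ q = x ^ q + y ^ q := fun x y => by
    rcases subsingleton_or_nontrivial S with hS | hS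
    · exact Subsingleton.elim _ _
    · have : CharP S p := charP_of_injective_algebraMap (RingHom.injective (algebraMap (ZMod p) S)) p
      exact add_pow_char_pow x y p k
  have hzadd : Polynomial.aeval (X 0 + X 1 : MvPolynomial (Fin 2) S) z = θ' (X 0 + X 1) := by
    simp [hz, θ', θ, hchar, mul_add]
  set V0 : MvPolynomial (Fin 2) (ZMod p) :=
    ∑ s ∈ Finset.range (2 * p), (1 - Polynomial.aeval (X 0 + X 1) (E0 p)) ^ s with hV0
  have hdvd : C a ∣ θ' (1 - Polynomial.aeval (X 0 + X 1) (E0 p)) := by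
    rw [show E0 p = 1 + Polynomial.X * r by rw [← hr]; ring]
    simp only [map_add, map_one, map_mul, Polynomial.aeval_X, map_sub, sub_add_cancel_left]
    rw [map_neg, dvd_neg, map_mul]
    refine Dvd.dvd.mul_right ?_ _
    simp [θ', θ, ← mul_add]
  have hinv : Polynomial.aeval (X 0 + X 1 : MvPolynomial (Fin 2) S) E * θ' V0 = 1 := by
    rw [hθ _ _ hzadd, ← map_mul,
      show Polynomial.aeval (X 0 + X 1) (E0 p) * V0 = 1 - (1 - Polynomial.aeval (X 0 + X 1) (E0 p)) ^ (2 * p) by
        rw [hV0, ← mul_neg_geom_sum]; ring,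
      map_sub, map_pow, map_one, hnilC _ hdvd, sub_zero]
  set K := θ' (D0 p * V0) with hK
  have hΔ : (Δ S hEu.unit : MvPolynomial (Fin 2) S) = 1 + K := by
    refine (hEu.map (Polynomial.aeval (X 0 + X 1 : MvPolynomial (Fin 2) S))).mul_right_cancel ?_
    have h := Δ_mul_add hEu.unit
    rw [IsUnit.unit_spec] at h
    rw [h, hK, map_mul, add_mul, one_mul, mul_assoc, mul_comm (θ' V0), hinv, mul_one, D0, map_sub, map_mul,
      ← hθ _ _ hzx, ← hθ _ _ hzy, ← hθ _ _ hzadd]
    ring
  have hV00 : coeff (0 : Fin 2 →₀ ℕ) V0 = 1 := by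
    rw [← constantCoeff_eq, hV0, map_sum, Finset.sum_eq_single 0]
    · simp
    · intro s _ hs
      rw [map_pow, map_sub, map_one, constantCoeff_eq, ← e2_zero, coeff_aeval_add, E0_coeff, κ, if_pos hp.pos]
      simp [hs]
    · intro h; exact absurd (Finset.mem_range.2 (by have := hp.pos; omega)) h
  have hlow : ∀ x y, x + y ≤ p → coeff (e2 x y) (D0 p * V0) = if x + y = p then κ p x * κ p y else 0 := by
    intro x y hxy
    rw [coeff_mul, Finset.sum_eq_single (e2 x y, 0)]
    · rw [hV00, mul_one, coeff_D0 x y hxy]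
    · rintro ⟨d, d'⟩ hd hne
      obtain ⟨u, v, rfl⟩ : ∃ u v, d = e2 u v := ⟨_, _, e2_eta d⟩
      obtain ⟨u', v', rfl⟩ : ∃ u v, d' = e2 u v := ⟨_, _, e2_eta d'⟩
      rw [Finset.HasAntidiagonal.mem_antidiagonal] at hd
      have h0 := DFunLike.congr_fun hd 0
      have h1 := DFunLike.congr_fun hd 1
      simp [e2] at h0 h1
      rw [coeff_D0 u v (by omega), if_neg, zero_mul]
      intro huv
      refine hne ?_
      simp only [Prod.mk.injEq, ← e2_zero, e2_inj]
      omega
    · intro h
      refine absurd ?_ h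
      rw [Finset.HasAntidiagonal.mem_antidiagonal, add_zero]
  have hco : ∀ i j, coeff (e2 i j) K ≠ 0 → q ∣ i ∧ q ∣ j ∧ p ≤ i / q + j / q ∧ i / q + j / q < 2 * p := fun i j h => by
    rw [hK, coeff_θ a hq] at h
    split_ifs at h with hd
    · refine ⟨hd.1, hd.2, ?_, ?_⟩
      · by_contra hlt
        rw [hlow _ _ (by omega), if_neg (by omega), map_zero, zero_mul] at h
        exact h rfl
      · by_contra hge
        obtain ⟨t, ht⟩ := Nat.exists_eq_add_of_le (Nat.le_of_not_lt hge)
        rw [ht, pow_add, ha2, zero_mul, mul_zero] at h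
        exact h rfl
    · exact absurd rfl h
  refine ⟨K, ⟨fun d => ?_, hEu.unit, hΔ⟩, fun i j hn => ?_, fun i j hne hn => ?_⟩
  · obtain ⟨i, j, rfl⟩ : ∃ i j, d = e2 i j := ⟨_, _, e2_eta d⟩
    by_cases h : coeff (e2 i j) K = 0
    · rw [h]; exact zero_mem _
    obtain ⟨hi, hj, hle, -⟩ := hco i j h
    obtain ⟨t, ht⟩ := Nat.exists_eq_add_of_le hle
    rw [hK, coeff_θ a hq, if_pos ⟨hi, hj⟩, ht, pow_add, ← mul_assoc, mul_comm _ (a ^ p), mul_assoc]
    exact Ideal.mul_mem_right _ _ ha
  · by_cases hi : q ∣ i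
    · have hj : q ∣ j := (Nat.dvd_add_right hi).1 (by rw [hn, pow_succ]; exact dvd_mul_right _ _)
      obtain ⟨x, rfl⟩ := hi
      obtain ⟨y, rfl⟩ := hj
      have hxy : x + y = p := Nat.eq_of_mul_eq_mul_left hq (by rw [mul_add, hn, pow_succ])
      rw [hK, coeff_θ a hq, if_pos ⟨dvd_mul_right q x, dvd_mul_right q y⟩, Nat.mul_div_cancel_left _ hq,
        Nat.mul_div_cancel_left _ hq, hlow x y hxy.le, if_pos hxy, hxy, W, if_pos (dvd_mul_right q x),
        Nat.mul_div_cancel_left _ hq, show p - x = y by omega]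
    · rw [hK, coeff_θ a hq, if_neg (fun h => hi h.1), W, if_neg hi, map_zero, zero_mul]
  · obtain ⟨hi, hj, hle, hlt⟩ := hco i j hne
    obtain ⟨x, rfl⟩ := hi
    obtain ⟨y, rfl⟩ := hj
    rw [Nat.mul_div_cancel_left _ hq, Nat.mul_div_cancel_left _ hq] at hle hlt
    have hlt' : p < x + y := lt_of_le_of_ne hle fun h => hn (by rw [← mul_add, ← h, pow_succ])
    refine ⟨by rw [← mul_add]; exact Nat.mul_pos hq (by omega), fun e he => ?_⟩
    have hd : x + y ∣ p ^ e := Dvd.intro_left q (by rw [mul_add]; exact he)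
    obtain ⟨l, -, hl⟩ := (Nat.dvd_prime_pow hp).1 hd
    match l with
    | 0 => have := hp.one_lt; simp at hl; omega
    | 1 => rw [pow_one] at hl; omega
    | l + 2 =>
      have h2 : 2 * p ≤ p ^ (l + 2) := by
        calc 2 * p ≤ p * p := Nat.mul_le_mul_right p hp.two_le
          _ = p ^ 2 := (pow_two p).symm
          _ ≤ p ^ (l + 2) := Nat.pow_le_pow_right hp.pos (by omega)
      omega

/-- linear cocycle with values in `M` -/
theorem IsLinCoc.toIdeal {N : MvPolynomial (Fin 2) S} (hc : IsLinCoc p fun i j => coeff (e2 i j) N)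
    (hN : Small M N) :
    IsLinCoc p fun i j => (⟨coeff (e2 i j) N, hN _⟩ : ↥(M.restrictScalars (ZMod p))) :=
  ⟨fun i j => Subtype.ext (hc.symm i j), fun i j l => Subtype.ext <| by
    have h := hc.coc i j l
    split_ifs at h ⊢ <;> simpa using h⟩

theorem comp_mem_G_of_not_pow (hM : M * M = ⊥) {N : MvPolynomial (Fin 2) S} (hN : Small M N)
    (hc : IsLinCoc p fun i j => coeff (e2 i j) N) {n : ℕ} (hn : 0 < n) (hne : ∀ e, n ≠ p ^ (e + 1)) :
    comp N n ∈ G M := by
  rcases lazard n hn (hc.toIdeal hN) with ⟨g, hg⟩ | ⟨k, m, hk, -⟩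
  · refine comp_mem_G hM hN hn (g : S) g.2 fun i j hij => ?_
    have h := congrArg Subtype.val (hg i j hij)
    split_ifs at h ⊢ with hh
    · rw [show coeff (e2 i j) N = _ from h]; simp [Algebra.smul_def]
    · exact h
  · exact absurd hk (hne k)

/-- Infinitesimal splitting. -/
theorem mem_G_of_isCoc (hM : M * M = ⊥) (hroot : ∀ m ∈ M, ∃ a : S, a ^ p = m) {N : MvPolynomial (Fin 2) S}
    (hN : Small M N) (hcoc : IsCoc (1 + N)) : N ∈ G M := by
  classical
  have hp := (Fact.out : p.Prime)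
  have hc := isLinCoc_of_isCoc (p := p) hM hN hcoc
  rw [← sum_comp N]
  refine G_sum hM _ _ fun n _ => ?_
  rcases Nat.eq_zero_or_pos n with rfl | hn
  · have h0 : comp N 0 = C (coeff (e2 0 0) N) := by simp [comp, monomial_e2]
    rw [h0]
    have hnil : IsNilpotent (Polynomial.C (coeff (e2 0 0) N)) := ⟨2, by
      rw [← map_pow, pow_two, show _ * _ = (0 : S) from Ideal.mem_bot.1 (hM ▸ Ideal.mul_mem_mul (hN (e2 0 0)) (hN (e2 0 0))),
        map_zero]⟩
    refine ⟨small_iff.2 (Ideal.mem_map_of_mem _ (hN _)), hnil.isUnit_one_add.unit, ?_⟩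
    refine (hnil.isUnit_one_add.map (Polynomial.aeval (X 0 + X 1 : MvPolynomial (Fin 2) S))).mul_right_cancel ?_
    have h := Δ_mul_add hnil.isUnit_one_add.unit
    rw [IsUnit.unit_spec] at h
    rw [h]
    simp
  by_cases hne : ∀ e, n ≠ p ^ (e + 1)
  · exact comp_mem_G_of_not_pow hM hN hc hn hne
  push Not at hne
  obtain ⟨e, rfl⟩ := hne
  rcases lazard _ hn (hc.toIdeal hN) with ⟨g, hg⟩ | ⟨k, m, hk, hm⟩
  · refine comp_mem_G hM hN hn (g : S) g.2 fun i j hij => ?_
    have h := congrArg Subtype.val (hg i j hij)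
    split_ifs at h ⊢ with hh
    · rw [show coeff (e2 i j) N = _ from h]; simp [Algebra.smul_def]
    · exact h
  obtain rfl : e = k := by
    have := Nat.pow_right_injective hp.two_le hk
    omega
  obtain ⟨a, ha⟩ := hroot m m.2
  obtain ⟨K, hKG, hKtop, hKrest⟩ := exists_exp_coboundary hM (show a ^ p ∈ M from ha ▸ m.2) e
  obtain ⟨hKs, f, hf⟩ := id hKG
  have hKc : IsLinCoc p fun i j => coeff (e2 i j) K := isLinCoc_of_isCoc hM hKs (hf ▸ isCoc_Δ f)
  have hdecomp : comp K (p ^ (e + 1)) = comp N (p ^ (e + 1)) := by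
    refine ext_e2 fun i j => ?_
    rw [coeff_comp, coeff_comp]
    split_ifs with hij
    · rw [hKtop i j hij, ha]
      have h := congrArg Subtype.val (hm i j hij)
      split_ifs at h with hh
      · rw [show coeff (e2 i j) N = _ from h]; simp [Algebra.smul_def]
      · rw [show coeff (e2 i j) N = _ from h]
        have hz : W p (p ^ e) i = 0 := by
          rcases Nat.eq_zero_or_pos i with rfl | hi
          · simp [W, κ]
          · obtain rfl : j = 0 := by omega
            rw [add_zero] at hij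
            subst hij
            simp [W, κ, pow_succ, Nat.mul_div_cancel_left _ (pow_pos hp.pos e)]
        simp [hz]
    · rfl
  rw [← hdecomp]
  have hrest : ∀ n', n' ≠ p ^ (e + 1) → comp K n' ∈ G M := by
    intro n' hn'
    by_cases h : 0 < n' ∧ ∀ l, n' ≠ p ^ l
    · exact comp_mem_G_of_not_pow hM hKs hKc h.1 fun l => h.2 (l + 1)
    · convert G_zero (M := M)
      refine ext_e2 fun i j => ?_
      rw [coeff_comp, coeff_zero]
      split_ifs with hij
      · by_contra hne'
        subst hij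
        exact h (hKrest i j hne' hn')
      · rfl
  by_cases hmem : p ^ (e + 1) ∈ Finset.range (K.totalDegree + 1)
  · have h1 : comp K (p ^ (e + 1)) = K + -∑ n' ∈ (Finset.range (K.totalDegree + 1)).erase (p ^ (e + 1)), comp K n' := by
      conv_rhs => arg 1; rw [← sum_comp K, ← Finset.add_sum_erase _ _ hmem]
      ring
    rw [h1]
    exact G_add hM hKG (G_neg hM (G_sum hM _ _ fun n' hn' => hrest n' (Finset.ne_of_mem_erase hn')))
  · convert G_zero (M := M)
    refine ext_e2 fun i j => ?_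
    rw [coeff_comp, coeff_zero]
    split_ifs with hij
    · by_contra hne'
      have := hasFiniteDeg K hne'
      exact hmem (Finset.mem_range.2 (by omega))
    · rfl

theorem exists_unit_lift {R : Type u} [CommRing R] {T : Type u} [CommRing T] {π : R →+* T}
    (hπ : Function.Surjective π) (hker : ∀ x, π x = 0 → IsNilpotent x) (u : Tˣ) :
    ∃ v : Rˣ, Units.map π.toMonoidHom v = u := by
  obtain ⟨a, ha⟩ := hπ u
  obtain ⟨b, hb⟩ := hπ ↑u⁻¹
  have h1 : IsUnit (a * b) := by
    have h := hker (a * b - 1) (by rw [map_sub, map_mul, ha, hb, map_one, Units.mul_inv, sub_self])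
    simpa using h.isUnit_one_add
  refine ⟨(isUnit_of_mul_isUnit_left h1).unit, Units.ext ?_⟩
  simpa using ha

/-- Multiplicative symmetric 2-cocycles congruent to `1` modulo a nilpotent ideal are coboundaries when the
Frobenius is surjective. -/
theorem exists_Δ_eq {R : Type u} [CommRing R] [Algebra (ZMod p) R] (hroot : ∀ r : R, ∃ a, a ^ p = r) (t : ℕ) :
    ∀ (J : Ideal R), J ^ (2 ^ t) = ⊥ → ∀ h : (MvPolynomial (Fin 2) R)ˣ, IsCoc (h : MvPolynomial (Fin 2) R) →
      Small J ((h : MvPolynomial (Fin 2) R) - 1) → ∃ f : (Polynomial R)ˣ, Δ R f = h := by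
  induction t with
  | zero =>
    intro J hJ h _ hs
    rw [pow_zero, pow_one] at hJ
    refine ⟨1, Units.ext ?_⟩
    rw [map_one, Units.val_one]
    refine (sub_eq_zero.1 (MvPolynomial.ext _ _ fun d => ?_)).symm
    rw [MvPolynomial.coeff_zero]
    exact Ideal.mem_bot.1 (hJ ▸ hs d)
  | succ t IH =>
    intro J hJ h hc hs
    let π := Ideal.Quotient.mk (J ^ 2)
    have hM : J.map π * J.map π = ⊥ := by
      rw [← Ideal.map_mul, ← pow_two]; exact Ideal.map_quotient_self _
    have hroot' : ∀ m ∈ J.map π, ∃ a : R ⧸ J ^ 2, a ^ p = m := fun m _ => by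
      obtain ⟨r, rfl⟩ := Ideal.Quotient.mk_surjective m
      obtain ⟨a, rfl⟩ := hroot r
      exact ⟨π a, (map_pow _ _ _).symm⟩
    have hG := mem_G_of_isCoc (p := p) hM hroot' (N := MvPolynomial.map π ((h : MvPolynomial (Fin 2) R) - 1))
      (fun d => by rw [coeff_map]; exact Ideal.mem_map_of_mem _ (hs d))
      (by rw [map_sub, map_one, add_sub_cancel]; exact hc.map π)
    obtain ⟨-, f, hf⟩ := hG
    rw [map_sub, map_one, add_sub_cancel] at hf
    have hker : ∀ x : Polynomial R, Polynomial.mapRingHom π x = 0 → IsNilpotent x := fun x hx => by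
      rw [Polynomial.isNilpotent_iff]
      intro i
      refine ⟨2 ^ t, ?_⟩
      have h1 : x.coeff i ∈ J ^ 2 := Ideal.Quotient.eq_zero_iff_mem.1 (by
        simpa using congrArg (Polynomial.coeff · i) hx)
      rw [← Ideal.mem_bot, ← hJ, pow_succ' 2 t, pow_mul]
      exact Ideal.pow_mem_pow h1 _
    obtain ⟨g, hg⟩ := exists_unit_lift (Polynomial.map_surjective π Ideal.Quotient.mk_surjective) hker f
    have hmap : MvPolynomial.map π (Δ R g : MvPolynomial (Fin 2) R) = MvPolynomial.map π (h : MvPolynomial (Fin 2) R) := by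
      rw [map_Δ]
      exact (congrArg (fun v => (Δ (R ⧸ J ^ 2) v : MvPolynomial (Fin 2) (R ⧸ J ^ 2))) hg).trans hf
    have hc' : IsCoc ((h / Δ R g : (MvPolynomial (Fin 2) R)ˣ) : MvPolynomial (Fin 2) R) := by
      rw [div_eq_mul_inv, ← map_inv, Units.val_mul]
      exact hc.mul (isCoc_Δ _)
    have hs' : Small (J ^ 2) ((((h / Δ R g : (MvPolynomial (Fin 2) R)ˣ)) : MvPolynomial (Fin 2) R) - 1) := by
      intro d
      refine Ideal.Quotient.eq_zero_iff_mem.1 ?_
      rw [← coeff_map]
      have h1 : Units.map (MvPolynomial.map π).toMonoidHom (Δ R g) = Units.map (MvPolynomial.map π).toMonoidHom h :=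
        Units.ext hmap
      have h2 : Units.map (MvPolynomial.map π).toMonoidHom (h / Δ R g) = 1 := by rw [map_div, h1, div_self']
      have h3 : MvPolynomial.map π ((h / Δ R g : (MvPolynomial (Fin 2) R)ˣ) : MvPolynomial (Fin 2) R) = 1 :=
        congrArg Units.val h2
      rw [map_sub, h3, map_one, sub_self, MvPolynomial.coeff_zero]
    obtain ⟨f', hf'⟩ := IH (J ^ 2) (by rw [← pow_mul, ← pow_succ', hJ]) (h / Δ R g) hc' hs'
    exact ⟨f' * g, by rw [map_mul, hf', div_mul_cancel]⟩

end GaDualLib
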